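import Cfsg.Agent.H137.G25.Rep

/-!
# Automorphisms of the graph on 3906 points, words (helper137)

`toP`, `ga`, `W`, `W_tab`.
-/

set_option autoImplicit false
set_option maxRecDepth 100000
set_option exponentiation.threshold 5000
set_option Elab.async false

namespace Cfsg.Agent.H137.G25

open Equiv Subgroup Cfsg.Agent.H123.Cls Cfsg.Agent.Lib.BitNet
open Cfsg.Agent.Lib.BitNetSimple (force force_eq tb tb_eq)

/-- the first table is a map of the points with the second as left inverse -/
noncomputable def chkI (P Q : ℕ) : Bool :=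
  allN (fun i => force (lk 12 P i) fun j => band (Nat.blt j 3906) (Nat.beq (lk 12 Q j) i)) 3906

theorem chkI_spec {P Q : ℕ} (h : chkI P Q = true) (i : ℕ) (hi : i < 3906) :
    lk 12 P i < 3906 ∧ lk 12 Q (lk 12 P i) = i := by
  have h1 := (allN_iff _ _).1 h i hi
  rw [force_eq] at h1
  obtain ⟨h2, h3⟩ := band_true h1
  exact ⟨by rwa [Nat.blt_eq] at h2, Nat.eq_of_beq_eq_true h3⟩

/-- the permutation of two tables -/
noncomputable def toP (P Q : ℕ) (h : chkI P Q = true) (h' : chkI Q P = true) : Perm (Fin 3906) where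
  toFun i := ⟨lk 12 P i, (chkI_spec h i i.2).1⟩
  invFun i := ⟨lk 12 Q i, (chkI_spec h' i i.2).1⟩
  left_inv i := Fin.ext (chkI_spec h i i.2).2
  right_inv i := Fin.ext (chkI_spec h' i i.2).2

/-- the inverse letter -/
def iv (i : ℕ) : ℕ := [1, 0, 3, 2, 5, 4, 7, 6, 8, 10, 9, 12, 11, 14, 13, 16, 15].getD i 0

theorem iv_spec : ∀ i < 17, iv i < 17 ∧ iv (iv i) = i := by decide

theorem ci : ∀ i < 17, chkI (nth gens i) (nth gens (iv i)) = true := by decide +kernel

theorem ci' (i : ℕ) (hi : i < 17) : chkI (nth gens (iv i)) (nth gens i) = true := by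
  have h := ci (iv i) (iv_spec i hi).1
  rwa [(iv_spec i hi).2] at h

/-- the letters -/
noncomputable def ga (i : Fin 17) : Perm (Fin 3906) := toP (nth gens i) (nth gens (iv i)) (ci i i.2) (ci' i i.2)

theorem ga_tab (i : Fin 17) (p : Fin 3906) : (ga i p : ℕ) = lk 12 (nth gens i.val) p := rfl

theorem ga_inv_tab (i : Fin 17) (p : Fin 3906) : ((ga i)⁻¹ p : ℕ) = lk 12 (nth gens (iv i.val)) p := rfl

/-- the inverse letter -/
def ivF (i : Fin 17) : Fin 17 := ⟨iv i, (iv_spec i i.2).1⟩

theorem ga_iv (i : Fin 17) : ga (ivF i) = (ga i)⁻¹ := Equiv.ext fun p => Fin.ext (by rw [ga_tab, ga_inv_tab]; rfl)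

/-- value of a word -/
noncomputable def W (w : List (Fin 17)) : Perm (Fin 3906) := (w.map ga).prod

theorem W_nil : W [] = 1 := rfl

theorem W_cons (i : Fin 17) (w : List (Fin 17)) : W (i :: w) = ga i * W w := by
  rw [W, List.map_cons, List.prod_cons, W]

theorem W_append (v w : List (Fin 17)) : W (v ++ w) = W v * W w := by
  rw [W, List.map_append, List.prod_append, W, W]

/-- the inverse word -/
def wi (w : List (Fin 17)) : List (Fin 17) := (w.map ivF).reverse

theorem W_wi (w : List (Fin 17)) : W (wi w) = (W w)⁻¹ := by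
  induction w with
  | nil => rfl
  | cons i w ih =>
    have e : wi (i :: w) = wi w ++ [ivF i] := by
      unfold wi
      rw [List.map_cons, List.reverse_cons]
    rw [e, W_append, ih, W_cons, W_cons, W_nil, mul_one, mul_inv_rev, ga_iv]

theorem W_tab (w : List (Fin 17)) (p : Fin 3906) : (W w p : ℕ) = evw 12 gens (w.map Fin.val) p := by
  induction w generalizing p with
  | nil => rfl
  | cons i w ih => rw [W_cons, Perm.mul_apply, ga_tab, ih, List.map_cons, evw_cons]

/-- two words with the same values -/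
theorem W_ext {v : Perm (Fin 3906)} {w : List (Fin 17)} {f : ℕ → ℕ} (hf : ∀ p : Fin 3906, (v p : ℕ) = f p)
    (h : allN (fun p => Nat.beq (f p) (evw 12 gens (w.map Fin.val) p)) 3906 = true) : v = W w := by
  ext p
  rw [hf, W_tab]
  exact Nat.eq_of_beq_eq_true ((allN_iff _ _).1 h p p.2)

theorem W_of_chkW {P : ℕ} {w : List (Fin 17)} (h : chkW 3906 12 gens P (w.map Fin.val) = true) (p : Fin 3906) :
    (W w p : ℕ) = lk 12 P p := by
  obtain ⟨-, h2⟩ := band_true h
  rw [W_tab]
  exact (Nat.eq_of_beq_eq_true ((allN_iff _ _).1 h2 p p.2)).symm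

/-! ### the graph -/

theorem row_lt {u v : ℕ} (h : (row u).testBit v = true) : v < 3906 := by
  unfold row at h
  change ((sel u >>> (4096 * (u &&& 15))) &&& (2 ^ 3906 - 1)).testBit v = true at h
  rw [Nat.testBit_and, Bool.and_eq_true, Nat.testBit_two_pow_sub_one] at h
  exact of_decide_eq_true h.2

end Cfsg.Agent.H137.G25
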