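import Cfsg.Agent.H137.G25.Rep

/-!
# Certificates of the classes of `G₂(5)`, part 0 (helper137)
-/

set_option autoImplicit false
set_option maxRecDepth 1000000
set_option exponentiation.threshold 5000
set_option Elab.async false

namespace Cfsg.Agent.H137.G25

open Cfsg.Agent.H123.Cls

theorem bd0 : chkB 3906 12 row 12 p0 []
    [.cell [], .base 0 0 1, .cnt 0 [100, 144], .base 0 2 1, .cell [(true, 2), (true, 0)], .cnt 0 [1, 0, 2, 3], .cell [(true, 5), (true, 6), (true, 3)], .base 0 48 1, .cell [(true, 10), (true, 7), (true, 0), (true, 5)], .cnt 0 [3, 2, 4, 5, 6, 7, 1, 8, 9, 0, 10], .cnt 2 [8, 9, 10, 7, 11, 6, 12, 5, 13, 14, 4, 15, 16, 17, 18, 3, 19, 20], .cnt 2 [4, 5, 3, 6, 2, 7, 1, 8, 9, 12], .cnt 14 [2, 3, 1, 4, 5, 0], .cnt 34 [1, 2, 3, 0], .cnt 23 [1, 2, 3, 0], .cnt 14 [0, 1], .cnt 27 [0], .cell [(true, 36), (true, 50), (true, 24), (true, 13)], .cnt 0 [0], .fin [64, 4, 2, 12, 7, 18, 55, 28, 8, 11, 0, 17, 27, 54, 59, 26, 57, 16, 66, 45,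 44, 46, 25, 53, 42, 67, 6, 62, 40, 39, 23, 41, 22, 63, 38, 9, 36]] 5858999999 = true := by decide +kernel

theorem ky0 : chkKey 3906 12 row 12 p0 key [3906, 0, 0] = true := by decide +kernel

theorem wd0 : chkW 3906 12 gens p0 [10, 14, 15, 14, 10, 11, 10, 10, 12, 10, 11, 9, 11, 10, 14, 15, 14, 12, 10, 12, 9, 11, 9, 9, 12, 9] = true := by decide +kernel

theorem bd11 : chkB 3906 12 row 12 p11 [(false, 1), (false, 2), (false, 3), (true, 1), (true, 3)]
    [.base 0 4 6, .cell [(true, 3), (true, 2), (false, 5), (false, 6), (false, 7), (false, 0), (false, 4), (false, 1)], .cnt 0 [7, 9, 8, 6, 10, 5, 11, 12, 4, 13, 3, 2, 15, 14], .cell [(true, 13), (true, 19), (true, 22), (false, 18), (false, 17), (false, 15), (false, 16)], .cnt 0 [1, 2, 3, 0, 4, 5], .cnt 9 [4, 3, 5, 2, 6, 1, 7, 8, 9], .cnt 17 [5, 4, 6, 3, 7, 2, 8, 10, 0], .cnt 18 [15, 16, 17, 14, 18, 13, 19, 20, 11, 12, 21, 35], .cnt 0 [0, 1], .cell [(true, 12), (true, 49), (true, 20), (true, 30),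 (false, 59)], .cnt 0 [0], .cell [(true, 5), (true, 48), (true, 56), (false, 62)], .cnt 0 [0], .cell [(true, 10), (true, 49), (true, 64)], .cnt 0 [0], .fin [7, 42, 67, 37, 27, 61, 60, 2, 63, 65, 4, 62, 28, 43, 64, 36, 66, 0, 35, 56, 58, 25, 57, 55, 54, 41, 31, 53, 18, 19, 26, 17, 34, 16, 10, 14, 15, 69, 12, 33, 24, 8]] 719 = true := by decide +kernel

theorem ky11 : chkKey 3906 12 row 12 p11 key [6, 900, 0] = true := by decide +kernel

theorem wd11 : chkW 3906 12 gens p11 [10, 14, 15, 14, 13, 11, 9, 12, 10, 14, 15, 14, 11, 10, 12, 14] = true := by decide +kernel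

theorem bd22 : chkB 3906 12 row 12 p22 [(false, 1), (false, 2), (false, 3), (false, 4), (false, 6), (true, 1), (true, 2), (true, 3), (true, 5), (true, 6)]
    [.cell [(true, 4), (true, 1), (false, 3)], .base 0 253 12, .cell [(true, 3), (true, 0), (false, 16), (false, 13), (false, 11), (false, 4), (false, 8), (false, 7), (false, 17), (false, 14), (false, 10), (false, 5), (false, 2), (false, 1)], .cnt 0 [1, 0, 2, 3], .cell [(true, 10), (true, 2), (false, 21), (false, 20), (false, 14), (false, 7), (false, 13), (false, 15), (false, 5), (false, 22), (false, 19), (false, 11), (false, 8), (false, 18), (false, 16), (false, 12)], .cnt 0 [1, 0, 3], .cnt 0 [16, 15, 14, 12, 17, 13, 18, 10, 9, 11, 21, 19, 6, 20, 23, 54], .cnt 3 [6, 3, 4, 7, 5, 9, 2], .cell [(true, 21), (true, 5), (true, 42), (true, 43)], .cnt 0 [0], .cell [(true, 21), (true, 4), (true, 30), (false, 50), (false, 38), (false, 35), (false, 49)], .cnt 0 [0], .cell [(true, 25), (true, 10),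 (true, 36), (true, 52), (true, 37), (false, 38)], .cnt 0 [0], .cell [(true, 33), (true, 10), (false, 0), (true, 44)], .cnt 0 [0], .fin [32, 38, 56, 54, 6, 42, 44, 46, 0, 2, 48, 41, 45, 57, 43, 10, 49, 37, 4, 14, 47, 12, 40, 51, 33, 11, 30, 29, 50, 28, 24, 25, 27, 13, 55, 23, 58, 9, 53, 59, 36, 26, 21, 16]] 23 = true := by decide +kernel

theorem ky22 : chkKey 3906 12 row 12 p22 key [2, 204, 144] = true := by decide +kernel

theorem wd22 : chkW 3906 12 gens p22 [10, 14, 15, 14, 12, 15, 10, 14, 15, 14, 16, 11] = true := by decide +kernel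

theorem bd33 : chkB 3906 12 row 12 p33 [(false, 6), (true, 1), (true, 2), (true, 3), (true, 4)]
    [.cell [(true, 2), (true, 1)], .base 0 117 12, .cell [(true, 11), (true, 1), (false, 14), (false, 0), (false, 5), (false, 7), (false, 2), (false, 6), (false, 13), (false, 15), (false, 10), (false, 3), (false, 9)], .cnt 0 [1, 2, 3, 0, 4, 5], .cnt 0 [6, 5, 7, 8, 4, 9, 3, 10, 1, 2, 16, 19, 22, 23], .cnt 5 [4, 5, 3, 6, 7, 2, 9, 8, 0], .cnt 0 [6, 7, 5, 8, 9, 4, 10], .cnt 18 [1], .cell [(true, 23), (true, 32), (true, 48), (false, 46)], .cnt 0 [0], .cell [(true, 34), (true, 28), (true, 42), (false, 44)], .cnt 0 [0], .fin [40, 4, 20, 0, 47, 46, 42, 2, 45, 53, 51, 48, 50, 44, 34, 43, 19, 39, 52, 49, 33, 56, 57, 32, 10, 17, 8, 18, 9, 7, 30, 6, 55, 31, 16, 13, 58, 29, 5]] 23 = true := by decide +kernel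

theorem ky33 : chkKey 3906 12 row 12 p33 key [0, 120, 192] = true := by decide +kernel

theorem wd33 : chkW 3906 12 gens p33 [10, 14, 15, 14, 9, 12, 10, 14, 15, 14, 11, 10] = true := by decide +kernel

end Cfsg.Agent.H137.G25
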