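import Cfsg.Agent.H137.G25.Rep

/-!
# Certificates of the classes of `G₂(5)`, part 1 (helper137)
-/

set_option autoImplicit false
set_option maxRecDepth 1000000
set_option exponentiation.threshold 5000
set_option Elab.async false

namespace Cfsg.Agent.H137.G25

open Cfsg.Agent.H123.Cls

theorem bd1 : chkB 3906 12 row 12 p1 [(false, 1), (true, 1)]
    [.cnt 1 [10, 6], .cell [(false, 0), (false, 2), (false, 1), (false, 3)], .base 0 1 2, .cell [(true, 6), (false, 4), (false, 1)], .base 0 1349 1, .cell [(true, 8), (false, 6), (true, 3)], .base 0 8 1, .cell [(true, 4), (true, 2), (true, 0), (false, 5)], .cnt 0 [4, 3, 1, 2, 5, 6, 7, 0, 8, 9], .cnt 1 [9, 8, 7, 10, 11, 6, 12, 5, 13, 4, 14, 15, 3, 16, 18, 21, 23], .cnt 17 [2, 3, 1, 4, 5, 0, 6, 7], .cnt 11 [5, 4, 6, 3, 2, 8, 7, 1], .cnt 18 [1, 2, 3, 0], .cnt 12 [4, 3, 5, 2, 1], .cnt 26 [1, 0], .cell [(true, 41), (true, 16), (true, 53), (true, 60)], .cnt 0 [0], .cell [(true, 23), (true, 45), (true, 10), (true, 64)],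 .cnt 0 [0], .fin [65, 4, 14, 30, 56, 10, 22, 0, 63, 2, 13, 29, 57, 64, 21, 9, 8, 66, 19, 47, 46, 5, 54, 45, 20, 27, 61, 44, 43, 42, 7, 41, 28, 59, 17, 36, 53, 39]] 14399 = true := by decide +kernel

theorem ky1 : chkKey 3906 12 row 12 p1 key [42, 0, 720] = true := by decide +kernel

theorem wd1 : chkW 3906 12 gens p1 [10, 14, 15, 14, 10, 11, 9, 10, 14, 15, 14, 10, 12, 9] = true := by decide +kernel

theorem bd12 : chkB 3906 12 row 12 p12 [(false, 3), (true, 1), (true, 2), (true, 3)]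
    [.base 1 0 6, .cell [(true, 7), (true, 3), (true, 2), (false, 5), (false, 1), (false, 0), (false, 4)], .cnt 0 [2, 4, 5, 3, 6, 1, 7, 8, 0], .cell [(true, 18), (true, 15), (true, 7), (false, 14), (false, 12), (false, 13), (false, 11), (false, 10)], .cnt 0 [2, 1, 3, 0, 4, 5, 6], .cnt 0 [4, 3, 5, 6, 2, 1, 7, 8, 9, 11, 12, 10], .cnt 0 [3, 2, 4, 1, 5, 0, 6], .cnt 10 [7, 6, 4, 5, 3, 8, 9, 10], .cnt 36 [8, 6, 10, 7, 4, 5, 12], .cell [(true, 46), (true, 14), (true, 52), (true, 58)], .cnt 0 [0], .fin [42, 23, 51, 35, 54, 0, 55, 59, 57, 58, 22, 49, 56, 41, 15, 33, 60, 62, 13, 61, 52, 34, 16, 14, 40, 20, 7, 8, 5, 6, 32, 12, 21, 48, 31, 19, 11, 50, 39, 29, 4, 3]] 719 = true := by decide +kernel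

theorem ky12 : chkKey 3906 12 row 12 p12 key [0, 0, 0] = true := by decide +kernel

theorem wd12 : chkW 3906 12 gens p12 [10, 14, 15, 14, 9, 11, 10, 14, 10, 10, 14, 15, 14, 9, 13, 9, 12, 10] = true := by decide +kernel

theorem bd23 : chkB 3906 12 row 12 p23 [(false, 1), (false, 3), (false, 5), (true, 1), (true, 2), (true, 3), (true, 4), (true, 7)]
    [.cell [(true, 2), (false, 4), (false, 3), (false, 1), (false, 0)], .base 0 28 12, .cell [(true, 13), (true, 2), (false, 16), (false, 6), (false, 5), (false, 0), (false, 9), (false, 15), (false, 3), (false, 7), (false, 8), (false, 1), (false, 10), (false, 4)], .cnt 0 [2, 1, 3, 0, 4, 5], .cell [(true, 17), (true, 3), (false, 18), (false, 13), (false, 24), (false, 21), (false, 15), (false, 23), (false, 11), (false, 10), (false, 20), (false, 7), (false, 9), (false, 22), (false, 16)], .cnt 0 [1, 2, 0, 3, 4], .cnt 6 [16, 17, 18, 14, 13, 20, 15, 12, 21, 19, 22, 11, 9, 10, 23, 41, 44], .cnt 4 [9, 11, 8, 13, 10,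 12, 6, 7, 16], .cell [(true, 33), (true, 16), (true, 41), (true, 29), (false, 56)], .cnt 0 [0], .cell [(true, 28), (true, 8), (true, 58), (true, 39)], .cnt 0 [0], .fin [34, 41, 50, 52, 2, 46, 44, 0, 53, 54, 49, 40, 47, 33, 43, 45, 48, 60, 51, 56, 57, 59, 8, 12, 11, 7, 39, 10, 26, 28, 29, 20, 9, 5, 25, 61, 22, 21, 31, 17, 24, 6, 4]] 74 = true := by decide +kernel

theorem ky23 : chkKey 3906 12 row 12 p23 key [1, 30, 75] = true := by decide +kernel

theorem wd23 : chkW 3906 12 gens p23 [10, 14, 15, 14, 16, 10, 10, 14, 15, 14, 9, 15] = true := by decide +kernel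

theorem bd34 : chkB 3906 12 row 12 p34 [(false, 6), (true, 1), (true, 2), (true, 3), (true, 4), (true, 5), (true, 6), (true, 7), (true, 8)]
    [.cell [(true, 6), (true, 5), (false, 1), (false, 3), (false, 0)], .base 0 268 12, .cell [(true, 18), (true, 1), (false, 15), (false, 19), (false, 14), (false, 20), (false, 8), (false, 5), (false, 3), (false, 11), (false, 9)], .cnt 0 [0, 1, 2], .cell [(true, 23), (true, 18), (true, 17), (true, 2), (false, 7), (false, 15), (false, 10), (false, 9), (false, 8), (false, 5), (false, 4)], .cnt 0 [1, 0, 3, 2], .cell [(true, 0), (true, 24), (true, 28), (true, 6), (false, 20), (false, 14)], .cnt 0 [0, 1], .cell [(true, 32), (true, 23), (true, 12), (true, 28), (true, 6)], .cnt 0 [0, 1], .cnt 7 [17, 16, 15, 14, 18, 19, 13, 21, 9, 10, 12, 20], .cell [(true, 1), (true, 40), (true, 28), (true, 27), (false, 47)], .cnt 0 [0], .cell [(true, 4), (true, 14), (true, 27), (true, 22), (false, 49)], .cnt 0 [0], .cell [(true, 15), (true,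 34), (true, 46), (true, 29), (true, 40), (false, 47)], .cnt 0 [0], .fin [26, 31, 22, 19, 48, 4, 43, 2, 35, 37, 42, 38, 47, 33, 44, 40, 39, 36, 0, 49, 41, 34, 46, 30, 53, 27, 50, 16, 17, 15, 12, 52, 11, 10, 51, 14, 13, 18, 54, 9, 7, 6]] 23 = true := by decide +kernel

theorem ky34 : chkKey 3906 12 row 12 p34 key [0, 96, 120] = true := by decide +kernel

theorem wd34 : chkW 3906 12 gens p34 [10, 14, 15, 14, 11, 11, 10, 14, 15, 14, 12, 12] = true := by decide +kernel

end Cfsg.Agent.H137.G25
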