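import Cfsg.Agent.H137.G25.Rep

/-!
# Certificates of the classes of `G₂(5)`, part 10 (helper137)
-/

set_option autoImplicit false
set_option maxRecDepth 1000000
set_option exponentiation.threshold 5000
set_option Elab.async false

namespace Cfsg.Agent.H137.G25

open Cfsg.Agent.H123.Cls

theorem bd10 : chkB 3906 12 row 12 p10 [(false, 1), (true, 1)]
    [.cnt 1 [5, 6], .base 0 1 5, .cell [(true, 7), (true, 4), (true, 3), (true, 0)], .base 0 306 5, .cell [(true, 6), (true, 1), (true, 11), (false, 3), (false, 2), (false, 7), (false, 9), (false, 8), (false, 0), (false, 10)], .cnt 0 [5, 4, 6, 3, 7, 2, 8, 9, 1, 10, 0], .cnt 1 [6, 7, 5, 4, 8, 3, 9, 10, 2, 11, 12, 14, 13], .cell [(true, 10), (true, 23), (false, 28), (false, 31), (false, 33), (false, 34), (false, 32), (true, 36), (false, 29), (false, 26), (false, 35), (false, 25)], .cnt 0 [3, 4, 2, 5, 1, 7, 6, 0], .cnt 9 [2, 1, 3, 4, 0], .cnt 15 [1, 0, 2], .cnt 30 [3, 4, 5, 1], .cell [(true, 7), (true, 29), (true, 16), (true, 55)], .cnt 0 [0],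 .fin [8, 13, 21, 59, 46, 3, 57, 48, 50, 55, 58, 0, 56, 4, 20, 12, 52, 45, 54, 7, 49, 5, 44, 19, 35, 18, 51, 11, 34, 33, 17, 43, 28, 42, 62, 38, 32, 10, 2]] 14999 = true := by decide +kernel

theorem ky10 : chkKey 3906 12 row 12 p10 key [36, 750, 750] = true := by decide +kernel

theorem wd10 : chkW 3906 12 gens p10 [10, 14, 15, 14, 11, 10, 12, 10, 16, 10, 14, 15, 14, 15, 9, 11, 9, 12] = true := by decide +kernel

theorem bd21 : chkB 3906 12 row 12 p21 [(false, 3), (false, 6), (true, 1), (true, 2), (true, 3), (true, 4), (true, 5), (true, 6)]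
    [.cell [(true, 5), (true, 1), (false, 4)], .base 0 108 12, .cell [(true, 13), (true, 11), (true, 2), (false, 16), (false, 18), (false, 14), (false, 9), (false, 4), (false, 1), (false, 0)], .cnt 0 [0, 1, 2], .cell [(true, 21), (true, 4), (true, 1), (false, 22), (false, 18), (false, 11), (false, 15), (false, 12), (false, 8), (false, 14), (false, 10)], .cnt 0 [1, 2, 3, 0, 4], .cell [(true, 21), (true, 14), (true, 4), (true, 7), (false, 18), (false, 24), (false, 17), (false, 27), (false, 12), (false, 11)], .cnt 0 [0, 1], .cell [(true, 28), (true, 7), (true, 10), (false, 27), (false, 31), (false, 22), (true, 1), (false, 13), (false, 21), (false, 14), (false, 19), (false, 20), (false, 17)], .cnt 0 [0, 1, 2], .cell [(true, 32), (true, 8), (true, 15), (true, 2), (true, 5), (false, 18), (false, 31), (false, 26), (false, 19), (false, 35)], .cnt 0 [1, 0], .cell [(true, 30), (true, 20), (true, 29), (true, 14), (false, 35), (false, 36)], .cnt 0 [0], .cell [(true, 40), (true, 38), (true, 33), (true,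 22), (true, 16)], .cnt 0 [0], .cell [(true, 41), (true, 32), (false, 0), (true, 31), (true, 38), (false, 22)], .cnt 0 [0], .cell [(true, 44), (true, 42), (true, 35), (true, 30), (true, 20), (false, 26)], .cnt 0 [0], .cell [(true, 46), (false, 6), (true, 28), (true, 19), (true, 12), (false, 39)], .cnt 0 [0], .cell [(true, 43), (true, 41), (true, 34), (true, 24), (true, 46)], .cnt 0 [0], .cell [(true, 49), (false, 2), (false, 6), (true, 37), (false, 30), (false, 46)], .cnt 0 [0], .fin [32, 19, 28, 22, 14, 50, 40, 45, 41, 4, 2, 12, 0, 44, 37, 34, 6, 49, 27, 35, 10, 39, 8, 47, 42, 18, 51, 48, 38, 30, 52, 36, 15, 43, 26, 24]] 23 = true := by decide +kernel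

theorem ky21 : chkKey 3906 12 row 12 p21 key [0, 192, 96] = true := by decide +kernel

theorem wd21 : chkW 3906 12 gens p21 [10, 14, 15, 14, 12, 10, 14, 15, 14, 11] = true := by decide +kernel

theorem bd32 : chkB 3906 12 row 12 p32 [(false, 1), (false, 4), (false, 6), (false, 8), (true, 1), (true, 2), (true, 3), (true, 4)]
    [.cell [(true, 3), (true, 2), (false, 1), (true, 0)], .base 0 165 12, .cell [(true, 7), (true, 5), (false, 13), (false, 11), (false, 8), (false, 0), (false, 1), (false, 17), (false, 14), (false, 16), (false, 4), (false, 15)], .cnt 0 [2, 3, 4, 1, 5, 0, 7], .cnt 0 [5, 6, 4, 7, 3, 8, 9, 2, 1, 14, 17, 10, 11, 12, 13, 15, 18], .cnt 3 [1, 2, 0, 3, 4], .cnt 9 [7, 6, 8, 4, 5, 10, 11, 9, 2], .cell [(true, 32), (true, 30), (true, 50), (true, 49), (false, 55)], .cnt 0 [0], .cell [(true, 3), (true, 29), (true, 52), (true, 45)], .cnt 0 [0], .cell [(true, 5), (true, 50), (true, 57), (true, 38), (false, 59)], .cnt 0 [0], .fin [19, 43, 58, 61, 36, 59, 53, 55, 48, 0, 42, 2, 51,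 46, 47, 18, 35, 56, 45, 50, 54, 14, 13, 4, 40, 33, 32, 60, 52, 10, 9, 49, 12, 34, 7, 17, 62, 31, 23]] 23 = true := by decide +kernel

theorem ky32 : chkKey 3906 12 row 12 p32 key [2, 180, 204] = true := by decide +kernel

theorem wd32 : chkW 3906 12 gens p32 [10, 14, 15, 14, 15, 15, 12, 10, 14, 15, 14, 11, 16, 16] = true := by decide +kernel

theorem bd43 : chkB 3906 12 row 12 p43 [(false, 1), (false, 5), (true, 1), (true, 2), (true, 4), (true, 7)]
    [.cell [(true, 1), (true, 0), (false, 3)], .base 0 2 12, .cell [(true, 5), (true, 13), (false, 15), (false, 9), (false, 1), (false, 6), (false, 11), (false, 4), (false, 14), (false, 2), (false, 16), (false, 7), (false, 3), (false, 10), (false, 8)], .cnt 0 [2, 1, 3, 0, 4, 5], .cnt 0 [15, 14, 17, 16, 13, 18, 19, 12, 11, 20, 10, 21, 22, 9, 23, 26, 36, 38, 40, 41, 42], .cnt 5 [1, 0], .cnt 8 [9, 8, 11, 7, 12, 10, 6, 13], .cell [(true, 3), (true, 32), (true, 42), (true, 44)], .cnt 0 [0], .cell [(true, 31), (true, 46), (true, 47), (true, 45)],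 .cnt 0 [0], .cell [(true, 59), (true, 34), (true, 37), (true, 2)], .cnt 0 [0], .fin [14, 42, 59, 57, 60, 55, 51, 4, 46, 50, 41, 58, 47, 54, 2, 53, 44, 48, 45, 49, 52, 0, 8, 13, 11, 40, 10, 12, 35, 33, 61, 36, 28, 32, 6, 31, 7, 15, 27, 9, 34, 19]] 74 = true := by decide +kernel

theorem ky43 : chkKey 3906 12 row 12 p43 key [1, 105, 0] = true := by decide +kernel

theorem wd43 : chkW 3906 12 gens p43 [10, 14, 15, 14, 16, 12, 10, 14, 15, 14, 11, 15] = true := by decide +kernel

end Cfsg.Agent.H137.G25
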