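import Cfsg.Agent.H137.G25.Rep

/-!
# Certificates of the classes of `G₂(5)`, part 2 (helper137)
-/

set_option autoImplicit false
set_option maxRecDepth 1000000
set_option exponentiation.threshold 5000
set_option Elab.async false

namespace Cfsg.Agent.H137.G25

open Cfsg.Agent.H123.Cls

theorem bd2 : chkB 3906 12 row 12 p2 [(true, 1)]
    [.base 0 0 3, .cell [(true, 3), (true, 0), (false, 2), (false, 1)], .cnt 0 [19, 20, 14, 16, 17, 18, 22, 12, 13, 15, 21, 23, 10, 24, 25, 26, 8, 7, 9, 11, 0, 27], .cell [(true, 20), (true, 25), (false, 23), (false, 26), (false, 24)], .cnt 0 [6, 5, 4, 7, 3, 8, 2, 9, 1, 11, 10, 0], .cell [(true, 26), (true, 10), (false, 37), (false, 38), (false, 36), (false, 39)], .cnt 0 [3, 4, 2, 5, 6, 1, 7, 0], .cnt 9 [2, 3, 1, 4, 0, 5, 6], .cnt 33 [2, 3, 1, 4, 5, 0], .cnt 40 [3, 2, 5, 4, 1, 7], .cnt 30 [4, 5, 6, 7, 2], .cell [(true, 5), (true, 63), (true, 40)], .cnt 0 [0], .fin [18, 25, 33, 12, 45, 5, 71, 0, 72, 73, 9, 24, 32, 74, 17, 46, 4,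 6, 11, 44, 31, 16, 43, 3, 10, 23, 30, 60, 65, 61, 66, 64, 67, 59, 69, 41, 22, 58, 14, 2, 42, 29, 8]] 719 = true := by decide +kernel

theorem ky2 : chkKey 3906 12 row 12 p2 key [0, 720, 0] = true := by decide +kernel

theorem wd2 : chkW 3906 12 gens p2 [10, 14, 15, 14, 13, 9, 15, 10, 14, 15, 14, 16, 10, 14] = true := by decide +kernel

theorem bd13 : chkB 3906 12 row 12 p13 [(false, 3), (true, 1), (true, 2), (true, 3)]
    [.cell [(true, 1), (true, 0)], .cnt 0 [12, 15, 16, 8, 10, 13, 6, 14, 17, 18, 20, 21], .cell [(true, 4), (true, 13), (false, 14)], .base 0 7 6, .cell [(true, 14), (true, 0), (false, 5), (false, 1), (false, 4), (false, 2), (false, 20)], .cnt 0 [2, 3, 4, 1, 5, 0, 7], .cell [(true, 22), (true, 10), (true, 9), (true, 6)], .cnt 0 [1, 0, 2], .cell [(true, 30), (true, 16), (true, 10), (true, 1), (false, 15), (false, 34), (false, 13), (false, 12)], .cnt 0 [0, 1, 2], .cell [(true, 33), (true, 18), (true, 13), (true, 6), (true, 2), (false, 38), (false,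 21), (false, 16)], .cnt 0 [1, 0, 2], .cell [(true, 15), (true, 37), (true, 41), (true, 6), (true, 2), (false, 23)], .cnt 0 [1, 0], .cnt 15 [4, 6, 5, 3, 1, 2, 0, 8, 13], .cell [(true, 5), (true, 54), (true, 30), (true, 14), (true, 50)], .cnt 0 [0, 1], .cell [(true, 30), (true, 56), (true, 40), (true, 11), (true, 21), (false, 36)], .cnt 0 [0, 1], .cell [(true, 33), (true, 12), (true, 59), (true, 3), (false, 43)], .cnt 0 [0], .cell [(true, 58), (true, 35), (false, 0), (false, 3), (true, 62), (true, 6)], .cnt 0 [0], .fin [19, 23, 28, 31, 5, 8, 40, 58, 16, 43, 39, 42, 44, 46, 0, 18, 59, 17, 47, 45, 2, 32, 60, 15, 37, 26, 24, 63, 64, 56, 53, 62, 7, 65, 22, 14, 4]] 35 = true := by decide +kernel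

theorem ky13 : chkKey 3906 12 row 12 p13 key [0, 72, 288] = true := by decide +kernel

theorem wd13 : chkW 3906 12 gens p13 [10, 14, 15, 14, 12, 9, 10, 14, 15, 14, 10, 11] = true := by decide +kernel

theorem bd24 : chkB 3906 12 row 12 p24 [(false, 1), (false, 3), (false, 5), (true, 1), (true, 2)]
    [.cell [(true, 1), (false, 3)], .base 0 2 12, .cell [(true, 4), (true, 0), (false, 7), (false, 5), (false, 8), (false, 2), (false, 13), (false, 10), (false, 1), (false, 3), (false, 11), (false, 9), (false, 6)], .cnt 0 [2, 3, 1, 4, 0, 5, 6], .cnt 0 [7, 8, 6, 9, 10, 5, 4, 11, 3, 12, 18, 24, 1, 2, 16, 19, 21], .cnt 4 [2, 1, 3, 0, 4], .cnt 8 [4, 5, 2, 3, 1, 6, 7, 0], .cnt 15 [0, 1], .cell [(true, 29), (true, 11), (true, 9), (true, 43), (false, 50)], .cnt 0 [0], .cell [(true, 37), (true, 30), (true, 47), (true, 13)], .cnt 0 [0], .fin [5, 17, 42, 13, 58, 53, 49, 54, 46, 51, 18, 47, 2, 55, 41, 48, 12, 50, 57, 45, 10, 0, 52, 40, 44, 34, 35, 32, 11, 33, 29, 39, 31, 9,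 7, 59, 14, 4]] 749 = true := by decide +kernel

theorem ky24 : chkKey 3906 12 row 12 p24 key [1, 30, 0] = true := by decide +kernel

theorem wd24 : chkW 3906 12 gens p24 [10, 14, 15, 14, 15, 11, 10, 14, 15, 14, 12, 16] = true := by decide +kernel

theorem bd35 : chkB 3906 12 row 12 p35 [(false, 1), (false, 5), (true, 1), (true, 2), (true, 3), (true, 4)]
    [.cell [(true, 1), (true, 0), (false, 4)], .base 0 94 12, .cell [(true, 16), (true, 1), (false, 4), (false, 3), (false, 13), (false, 10), (false, 14), (false, 0), (false, 7), (false, 2), (false, 11), (false, 15), (false, 8), (false, 6)], .cnt 0 [2, 3, 1, 4, 0, 5, 6], .cell [(true, 15), (true, 6), (false, 18), (false, 16), (false, 11), (false, 21), (false, 24), (false, 22), (false, 23), (false, 8), (false, 19), (false, 14), (false, 12), (false, 9)], .cnt 0 [1, 2, 0, 4], .cell [(true, 23), (true, 11), (true, 3), (false, 19), (false, 27), (false, 26), (false, 29), (false, 14), (false, 28), (false, 16), (false,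 20), (false, 22), (false, 17)], .cnt 0 [1, 0, 2, 3], .cnt 10 [9, 11, 10, 7, 6, 8, 5, 4, 12, 23], .cnt 15 [8, 11, 9, 10], .cell [(true, 13), (true, 33), (true, 38), (false, 43), (true, 36)], .cnt 0 [0], .fin [24, 19, 32, 34, 49, 36, 0, 35, 40, 37, 44, 41, 47, 31, 42, 50, 22, 18, 45, 39, 43, 38, 5, 48, 2, 10, 13, 12, 15, 14, 4, 11, 17, 9, 3, 30]] 24 = true := by decide +kernel

theorem ky35 : chkKey 3906 12 row 12 p35 key [1, 75, 125] = true := by decide +kernel

theorem wd35 : chkW 3906 12 gens p35 [10, 14, 15, 14, 9, 13, 10, 10, 14, 15, 14, 9, 14, 10] = true := by decide +kernel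

end Cfsg.Agent.H137.G25
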