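import Cfsg.Agent.H137.G25.Rep

/-!
# Certificates of the classes of `G₂(5)`, part 3 (helper137)
-/

set_option autoImplicit false
set_option maxRecDepth 1000000
set_option exponentiation.threshold 5000
set_option Elab.async false

namespace Cfsg.Agent.H137.G25

open Cfsg.Agent.H123.Cls

theorem bd3 : chkB 3906 12 row 12 p3 [(false, 1)]
    [.cell [(false, 0)], .base 0 0 3, .cell [(true, 2), (true, 1), (true, 0), (false, 4)], .cnt 0 [3, 0], .cell [(true, 5), (true, 4), (false, 3), (true, 1)], .base 0 26 3, .cell [(true, 8), (true, 0), (false, 9), (false, 2), (false, 7), (false, 1), (true, 5)], .cnt 0 [7, 5, 8, 6, 9, 4, 10, 11, 2, 3, 12, 0, 1, 13, 14], .cell [(true, 11), (true, 23), (false, 25), (true, 21), (false, 18), (false, 24), (false, 17), (false, 16)], .cnt 0 [7, 6, 5, 8, 9, 4, 10, 3, 11, 12, 2, 14, 1], .cnt 0 [4, 3, 5, 2, 6, 1, 8, 7, 9], .cnt 24 [1, 2, 0, 3, 4], .cnt 15 [1, 2, 3, 4], .cnt 9 [4, 6, 5, 8, 7, 3, 11], .cell [(true, 8), (true, 34), (true, 52), (true, 23), (true, 55)],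 .cnt 0 [0], .cell [(true, 2), (true, 54), (true, 36)], .cnt 0 [0], .fin [19, 14, 28, 8, 64, 0, 61, 68, 2, 66, 67, 60, 18, 13, 27, 41, 40, 9, 10, 26, 59, 57, 55, 54, 38, 53, 39, 56, 6, 25, 37, 12, 7, 35, 52, 36, 24, 17, 70, 50, 34, 5]] 377999 = true := by decide +kernel

theorem ky3 : chkKey 3906 12 row 12 p3 key [126, 3780, 0] = true := by decide +kernel

theorem wd3 : chkW 3906 12 gens p3 [10, 14, 15, 14, 12, 9, 13, 10, 16, 16, 10, 11, 10, 10, 14, 15, 14, 9, 12, 9, 15, 15, 9, 14, 10, 11] = true := by decide +kernel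

theorem bd14 : chkB 3906 12 row 12 p14 [(true, 1), (true, 2), (true, 3)]
    [.cell [(true, 1), (true, 0)], .cnt 0 [30, 36, 29, 32, 34, 35, 24, 26, 28, 37, 38, 25, 33, 39, 40, 20, 22, 27, 31, 41], .cell [(true, 5), (true, 22)], .base 0 1195 7, .cell [(true, 18), (true, 0), (false, 31), (false, 29), (false, 6), (false, 1)], .cnt 0 [1, 0, 2, 3], .cell [(true, 27), (true, 8), (true, 3), (false, 35), (false, 11), (false, 9), (false, 5), (false, 34), (false, 7)], .cnt 0 [0, 1, 2], .cell [(true, 36), (true, 6), (true, 1), (false, 40), (false, 15), (false, 12), (false, 38), (false, 10), (false, 14), (false, 9)], .cnt 0 [1, 0, 2, 3], .cell [(true, 32), (true, 7), (true, 45), (true, 12), (true, 3), (true, 43)], .cnt 0 [0, 2, 1], .cell [(true, 45), (true, 23), (true, 20), (true, 10), (false, 18)], .cnt 0 [0, 1], .cell [(true, 40), (true, 16), (true, 21), (true, 14), (false, 27), (false, 23)], .cnt 0 [0], .cell [(true, 43), (true, 52), (true, 19), (false, 28)], .cnt 0 [0], .cell [(true, 47), (true,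 56), (false, 2), (true, 31)], .cnt 0 [0], .cell [(true, 53), (true, 30), (true, 15), (true, 9), (false, 28)], .cnt 0 [0], .cell [(true, 53), (true, 17), (true, 31), (true, 27), (false, 33)], .cnt 0 [0], .cell [(true, 58), (false, 6), (true, 62), (true, 28), (false, 11), (true, 24)], .cnt 0 [0], .cell [(true, 54), (true, 64), (false, 10), (true, 39)], .cnt 0 [0], .fin [19, 28, 24, 33, 15, 8, 10, 0, 40, 2, 41, 4, 12, 66, 39, 36, 37, 32, 65, 38, 6, 23, 35, 27, 64, 50, 60, 62, 58, 44, 54, 48, 31, 55, 52, 59, 57, 22, 61, 53, 18, 14]] 20 = true := by decide +kernel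

theorem ky14 : chkKey 3906 12 row 12 p14 key [0, 168, 168] = true := by decide +kernel

theorem wd14 : chkW 3906 12 gens p14 [10, 14, 15, 14, 9, 14, 10, 14, 15, 14, 13, 10] = true := by decide +kernel

theorem bd25 : chkB 3906 12 row 12 p25 [(false, 3), (true, 1), (true, 2), (true, 3), (true, 4), (true, 5), (true, 7)]
    [.cell [(true, 3), (false, 1), (false, 5), (false, 4), (false, 2), (false, 0)], .cnt 0 [5], .cell [(true, 7), (true, 5), (false, 0)], .base 0 101 12, .cell [(true, 4), (false, 13), (true, 1), (false, 18), (false, 11), (false, 9), (false, 20), (false, 15)], .cnt 0 [1, 0, 2], .cell [(true, 11), (true, 10), (true, 2), (true, 17), (false, 13), (false, 23), (false, 20), (false, 21), (false, 19), (false, 6), (false, 4), (false, 5)], .cnt 0 [1, 0, 2], .cell [(true, 14), (true, 0), (true, 6), (false, 17), (false, 25), (false, 28), (false, 27), (true, 21), (false, 24), (false, 23), (false, 16), (false, 12)], .cnt 0 [0, 1], .cnt 23 [4, 6, 3, 5, 8, 10], .cell [(true, 3), (true,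 28), (true, 22), (true, 15)], .cnt 0 [0], .cell [(true, 39), (false, 0), (true, 26), (true, 22), (true, 20)], .cnt 0 [0], .cell [(true, 7), (true, 26), (false, 2), (true, 39), (true, 0)], .cnt 0 [0], .cell [(true, 19), (true, 32), (true, 10), (false, 13), (true, 16), (false, 42), (false, 43), (false, 41)], .cnt 0 [0], .cell [(true, 11), (true, 32), (true, 31), (false, 35)], .cnt 0 [0], .cell [(true, 32), (true, 15), (true, 20), (true, 25), (false, 43), (true, 8), (false, 44), (false, 47), (false, 31)], .cnt 0 [0], .cell [(true, 48), (false, 42), (false, 8), (true, 35), (true, 34)], .cnt 0 [0], .fin [28, 25, 21, 19, 44, 4, 12, 0, 8, 31, 32, 40, 38, 41, 34, 42, 47, 33, 6, 39, 37, 24, 46, 36, 48, 35, 2, 49, 10, 29, 17, 51, 50, 20, 18, 14]] 29 = true := by decide +kernel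

theorem ky25 : chkKey 3906 12 row 12 p25 key [0, 90, 120] = true := by decide +kernel

theorem wd25 : chkW 3906 12 gens p25 [10, 14, 15, 14, 13, 12, 9, 10, 14, 15, 14, 10, 11, 14] = true := by decide +kernel

theorem bd36 : chkB 3906 12 row 12 p36 [(false, 3), (false, 6), (true, 1), (true, 2)]
    [.cell [(true, 1), (true, 0)], .cnt 0 [10, 8, 9, 13, 14, 20, 4, 6, 11, 12, 7, 16], .cell [(true, 4), (true, 14)], .base 0 164 12, .cell [(true, 4), (true, 3), (true, 15), (false, 26), (false, 8), (false, 5), (false, 1), (false, 11), (false, 10), (false, 9), (false, 2)], .cnt 0 [1, 2, 0, 3], .cell [(true, 32), (true, 3), (false, 26), (false, 29), (false, 28), (false, 27), (false, 31), (false, 21), (false, 25), (false, 24), (false, 22), (false, 16), (false, 15), (false, 13), (false, 12), (false, 9), (false, 6)], .cnt 0 [1, 0, 2, 3, 4], .cnt 0 [10, 11, 9, 12, 8, 7, 13, 15, 5, 14, 4, 31, 36], .cnt 2 [5, 4, 2, 6, 7], .cell [(true, 49), (true, 2), (true, 19), (false, 38)], .cnt 0 [0], .cell [(true,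 47), (true, 19), (true, 33), (true, 28)], .cnt 0 [0], .fin [26, 31, 48, 8, 36, 39, 33, 42, 34, 35, 44, 2, 0, 38, 40, 30, 7, 41, 25, 37, 43, 60, 5, 59, 21, 4, 20, 18, 19, 17, 56, 6, 49, 57, 54, 23, 14, 55, 16, 53, 13, 12]] 29 = true := by decide +kernel

theorem ky36 : chkKey 3906 12 row 12 p36 key [0, 60, 120] = true := by decide +kernel

theorem wd36 : chkW 3906 12 gens p36 [10, 14, 15, 14, 13, 10, 14, 15, 14, 14] = true := by decide +kernel

end Cfsg.Agent.H137.G25
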