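import Cfsg.Agent.H137.G25.Rep

/-!
# Certificates of the classes of `G₂(5)`, part 4 (helper137)
-/

set_option autoImplicit false
set_option maxRecDepth 1000000
set_option exponentiation.threshold 5000
set_option Elab.async false

namespace Cfsg.Agent.H137.G25

open Cfsg.Agent.H123.Cls

theorem bd4 : chkB 3906 12 row 12 p4 [(false, 1), (false, 2), (true, 1), (true, 2)]
    [.cell [(true, 0), (false, 1)], .base 0 0 4, .cell [(true, 6), (true, 3), (true, 5), (false, 2), (false, 0)], .cnt 0 [4, 5, 6, 7, 3, 8, 9, 2, 10, 0, 12, 11, 1], .cell [(true, 14), (true, 11), (false, 17), (false, 19), (false, 16), (false, 15), (false, 20)], .cnt 0 [8, 9, 10, 7, 11, 12, 6, 13, 5, 14, 4, 15, 16, 3, 17], .cnt 0 [2, 3, 1, 4, 0, 5, 6, 7], .cnt 0 [4, 3, 2, 5, 1, 6, 8], .cnt 33 [2, 3, 1, 4, 0, 5], .cnt 22 [4, 8, 5, 7, 6, 1, 9, 2], .cell [(true, 0), (true, 38), (true, 63), (false, 57)], .cnt 0 [0], .cnt 16 [2, 6, 7], .fin [18, 33, 24, 61, 65, 64, 66, 3, 67, 69, 32, 60, 25,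 17, 8, 70, 10, 62, 9, 23, 16, 31, 48, 12, 47, 1, 0, 59, 45, 42, 46, 11, 58, 44, 40, 22, 30, 41, 20, 2, 37, 29, 7]] 479 = true := by decide +kernel

theorem ky4 : chkKey 3906 12 row 12 p4 key [14, 240, 720] = true := by decide +kernel

theorem wd4 : chkW 3906 12 gens p4 [10, 14, 15, 14, 15, 14, 14, 15, 10, 14, 15, 14, 16, 13, 13, 16] = true := by decide +kernel

theorem bd15 : chkB 3906 12 row 12 p15 [(false, 1), (false, 2), (false, 4), (true, 1), (true, 2), (true, 3), (true, 4)]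
    [.cell [(true, 2), (true, 1), (true, 0)], .cnt 0 [8, 9, 10, 6, 12, 4, 11, 7, 0, 2, 3, 14, 15], .cell [(true, 9), (true, 15)], .base 0 36 8, .cell [(true, 9), (true, 0), (true, 26), (false, 7), (false, 1)], .cnt 0 [0, 1, 2], .cell [(true, 11), (true, 25), (true, 2), (false, 10), (false, 30), (false, 4), (false, 8), (false, 29), (false, 28), (false, 27), (false, 9), (false, 7), (false, 5)], .cnt 0 [2, 1, 3, 4, 0, 5, 6], .cnt 0 [5, 6, 4, 7, 8, 9, 2, 3, 15, 10, 13, 14, 17], .cnt 4 [1, 2], .cnt 3 [1, 0], .cell [(true, 47), (true, 14), (true, 33), (true, 23), (false, 35)], .cnt 0 [0], .cell [(true, 48), (false, 0), (true, 34), (true, 31), (true, 27)], .cnt 0 [0], .cell [(true, 51), (true, 19), (true, 37), (true, 30), (true, 27)], .cnt 0 [0], .cell [(true, 24), (true, 15), (true, 58)], .cnt 0 [0], .fin [8, 35, 11, 31, 61, 63, 6, 0, 2, 40, 41, 37, 43, 42, 30, 62, 58, 44, 39, 23, 24, 4, 38, 21, 57, 29, 22, 60, 54, 17, 55, 56, 10, 34, 20, 52, 19, 15, 9]] 23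 = true := by decide +kernel

theorem ky15 : chkKey 3906 12 row 12 p15 key [2, 120, 204] = true := by decide +kernel

theorem wd15 : chkW 3906 12 gens p15 [10, 14, 15, 14, 14, 9, 10, 14, 15, 14, 10, 13] = true := by decide +kernel

theorem bd26 : chkB 3906 12 row 12 p26 [(false, 1), (false, 5), (true, 1), (true, 2), (true, 4), (true, 7)]
    [.cell [(true, 1), (true, 0), (false, 3)], .base 0 12 12, .cell [(true, 12), (true, 11), (false, 9), (false, 10), (false, 3)], .cnt 0 [0, 1, 2, 3], .cell [(true, 10), (true, 3), (false, 21), (false, 15), (false, 19), (false, 18), (false, 16), (false, 5), (false, 20), (false, 13), (false, 8), (false, 7), (false, 12), (false, 6), (false, 14), (false, 11), (false, 9)], .cnt 0 [1, 2, 0, 3, 4], .cnt 6 [15, 14, 17, 16, 18, 13, 20, 12, 19, 11, 21, 22, 10, 23, 60, 63], .cnt 2 [9, 10, 8, 13, 7, 12, 6, 15, 5], .cell [(true, 0), (true, 19), (true, 27), (false, 52)], .cnt 0 [0], .cell [(true, 16), (true, 7), (true, 51)], .cnt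 0 [0], .fin [38, 33, 53, 55, 54, 41, 47, 43, 42, 50, 32, 51, 45, 0, 46, 40, 48, 49, 44, 2, 56, 11, 37, 10, 12, 7, 30, 9, 25, 23, 26, 27, 20, 8, 24, 57, 28, 22, 5, 31, 21, 6, 4]] 74 = true := by decide +kernel

theorem ky26 : chkKey 3906 12 row 12 p26 key [1, 105, 0] = true := by decide +kernel

theorem wd26 : chkW 3906 12 gens p26 [10, 14, 15, 14, 16, 13, 10, 14, 15, 14, 14, 15] = true := by decide +kernel

theorem bd37 : chkB 3906 12 row 12 p37 [(false, 1), (false, 3), (false, 5), (false, 6), (true, 1), (true, 2)]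
    [.cnt 3 [0, 1, 2], .cell [(true, 1), (true, 4), (false, 3)], .base 0 78 12, .cell [(true, 6), (true, 0), (true, 13), (false, 10), (false, 4), (false, 2), (false, 8), (false, 16), (false, 11)], .cnt 0 [1, 0, 2, 3], .cell [(true, 19), (true, 11), (true, 2), (false, 14), (false, 22), (false, 12), (false, 16), (false, 6), (false, 8), (false, 7), (false, 9)], .cnt 0 [1, 2, 0, 3, 4], .cnt 0 [9, 10, 8, 11, 7, 12, 13, 6, 14, 15, 3, 4, 29, 31, 32, 36], .cnt 5 [3, 5, 4, 2, 6, 0], .cell [(true, 18), (true, 44), (true, 35), (true, 39), (false, 48)], .cnt 0 [0], .cell [(true, 42), (true, 36), (true, 38), (true, 35), (true, 32), (false, 56)], .cnt 0 [0], .cell [(true, 5), (true, 25), (true, 51), (false, 2)], .cnt 0 [0], .fin [52, 36, 32, 9, 55, 41, 4, 39, 48, 2, 46, 11, 0, 42, 50, 43, 47, 44, 45, 49, 10, 40, 27, 56, 30, 8, 37, 53, 24, 25, 23, 26, 21, 7, 13, 59, 31, 20, 12]] 29 = true := by decide +kernel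

theorem ky37 : chkKey 3906 12 row 12 p37 key [1, 180, 120] = true := by decide +kernel

theorem wd37 : chkW 3906 12 gens p37 [10, 14, 15, 14, 12, 10, 10, 14, 15, 14, 9, 11] = true := by decide +kernel

end Cfsg.Agent.H137.G25
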