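import Cfsg.Agent.H137.G25.Rep

/-!
# Certificates of the classes of `G₂(5)`, part 5 (helper137)
-/

set_option autoImplicit false
set_option maxRecDepth 1000000
set_option exponentiation.threshold 5000
set_option Elab.async false

namespace Cfsg.Agent.H137.G25

open Cfsg.Agent.H123.Cls

theorem bd5 : chkB 3906 12 row 12 p5 [(false, 1), (false, 2), (true, 1), (true, 2)]
    [.cell [(true, 0), (false, 1)], .base 0 13 4, .cell [(true, 3), (true, 6), (false, 5), (false, 1), (false, 2), (false, 0)], .cnt 0 [11, 10, 13, 8, 14, 9, 7, 6, 12, 16, 15, 17, 19, 4, 5, 18, 1, 20], .cell [(true, 17), (true, 21), (false, 22), (false, 24), (false, 20), (false, 25), (false, 19)], .cnt 0 [8, 7, 9, 10, 6, 5, 11, 12, 4, 13, 3, 14, 1], .cell [(true, 7), (true, 26), (false, 33), (false, 38), (false, 39), (false, 34), (false, 35), (false, 36)], .cnt 0 [1, 2, 3, 0, 4], .cnt 25 [4, 3, 2, 5, 1, 6, 7, 0], .cnt 14 [2, 1, 3, 0], .cnt 32 [2, 1, 3, 0], .cnt 23 [8, 9, 6, 7, 10, 3, 4], .cell [(true, 34), (true, 58),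 (true, 25), (true, 63), (true, 21)], .cnt 0 [0], .fin [15, 11, 29, 23, 70, 66, 65, 0, 64, 28, 16, 12, 24, 67, 69, 22, 7, 8, 5, 43, 42, 41, 40, 4, 39, 6, 13, 21, 54, 62, 59, 61, 52, 10, 26, 58, 38, 2, 19, 53, 51, 27, 18, 3]] 479 = true := by decide +kernel

theorem ky5 : chkKey 3906 12 row 12 p5 key [18, 240, 840] = true := by decide +kernel

theorem wd5 : chkW 3906 12 gens p5 [10, 14, 15, 14, 12, 14, 10, 14, 15, 14, 13, 11] = true := by decide +kernel

theorem bd16 : chkB 3906 12 row 12 p16 [(false, 2), (false, 4), (true, 1), (true, 2), (true, 3), (true, 4)]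
    [.cell [(true, 4), (false, 5)], .cnt 0 [4], .cell [(false, 0), (true, 3), (true, 4)], .base 0 79 8, .cell [(true, 7), (true, 4), (false, 13), (false, 12), (false, 14), (false, 11), (false, 6), (false, 5), (false, 3), (false, 0), (false, 2)], .cnt 0 [4, 3, 5, 6, 2, 7, 1, 8, 0], .cell [(true, 6), (true, 10), (false, 16), (false, 12), (false, 21), (false, 15), (false, 22), (false, 11), (false, 14), (false, 17), (false, 24), (false, 13)], .cnt 0 [2, 1, 3, 0, 4, 5], .cnt 7 [8, 6, 9, 7, 10, 5, 4, 11, 12, 2, 3, 1], .cnt 2 [2, 3, 4, 5, 1, 0, 6], .cnt 19 [16, 17, 18, 15, 12, 14, 20, 13, 19, 10], .cell [(true, 5), (true, 41), (true, 47), (true, 52)], .cnt 0 [0], .cell [(true, 4), (true, 27), (true, 48), (true, 62), (false, 61)], .cnt 0 [0], .cell [(true, 43), (true, 61), (true, 56), (false, 52), (false, 12)], .cnt 0 [0], .fin [40, 21, 50, 65, 58, 55, 2, 4, 0, 39, 53, 22, 57, 54, 49, 59, 56, 52, 34, 66, 48, 63, 20, 64, 15, 38, 12, 31, 10, 32, 14, 30, 27, 19, 13, 9, 37, 7, 68, 45, 33, 28, 18,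 6]] 23 = true := by decide +kernel

theorem ky16 : chkKey 3906 12 row 12 p16 key [0, 144, 144] = true := by decide +kernel

theorem wd16 : chkW 3906 12 gens p16 [10, 14, 15, 14, 12, 13, 11, 10, 14, 15, 14, 12, 14, 11] = true := by decide +kernel

theorem bd27 : chkB 3906 12 row 12 p27 [(false, 1), (false, 2), (false, 4), (false, 5), (true, 1), (true, 2), (true, 3), (true, 5), (true, 6), (true, 7)]
    [.cell [(true, 4), (true, 5), (false, 0)], .base 0 303 12, .cell [(true, 17), (true, 11), (false, 9), (false, 8), (false, 2), (false, 16), (false, 7), (false, 10), (false, 13), (false, 1), (false, 3), (false, 4)], .cnt 0 [1, 2, 0, 3, 4], .cell [(true, 10), (true, 8), (true, 4), (false, 23), (false, 21), (false, 13), (false, 24), (false, 7), (false, 19), (false, 22), (false, 20)], .cnt 0 [1, 2, 0, 3], .cell [(true, 25), (true, 12), (true, 2), (true, 7), (false, 28), (false, 13), (false, 11)], .cnt 0 [0, 1], .cell [(true, 27), (true, 25), (true, 18), (false, 30)], .cnt 0 [0, 1], .cell [(true,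 7), (true, 15), (true, 1), (true, 4), (false, 25), (false, 17), (false, 21), (false, 20), (false, 30), (false, 27), (false, 23), (false, 22), (false, 18), (false, 34), (false, 26), (false, 31)], .cnt 0 [2, 1, 3, 0], .cell [(true, 35), (true, 33), (true, 13), (true, 27), (true, 37), (false, 40)], .cnt 0 [0], .cell [(true, 42), (true, 34), (true, 15), (true, 40), (false, 11)], .cnt 0 [0], .cell [(true, 40), (true, 32), (true, 29), (true, 7), (true, 44)], .cnt 0 [0], .cell [(true, 7), (true, 29), (false, 4), (true, 18), (true, 25), (false, 35)], .cnt 0 [0], .cell [(true, 47), (true, 38), (true, 37), (true, 34), (true, 28)], .cnt 0 [0], .cell [(true, 42), (true, 35), (false, 2), (true, 40), (false, 49)], .cnt 0 [0], .fin [26, 32, 21, 18, 14, 49, 37, 0, 8, 38, 10, 2, 15, 45, 43, 42, 24, 41, 47, 34, 39, 6, 50, 31, 4, 35, 48, 51, 13, 40, 54, 36, 53, 52, 12]] 19 = true := by decide +kernel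

theorem ky27 : chkKey 3906 12 row 12 p27 key [3, 120, 160] = true := by decide +kernel

theorem wd27 : chkW 3906 12 gens p27 [10, 14, 15, 14, 16, 9, 13, 10, 14, 15, 14, 14, 10, 15] = true := by decide +kernel

theorem bd38 : chkB 3906 12 row 12 p38 [(true, 1), (true, 2)]
    [.cell [(true, 1), (true, 0)], .cnt 0 [27, 16, 21, 22, 24, 26, 18, 20, 23, 25, 28, 14, 19, 29, 30], .cell [(true, 16), (false, 12), (false, 17), (false, 11), (false, 10), (false, 14), (false, 5), (false, 13), (false, 4)], .base 0 67 12, .cell [(true, 23), (true, 1), (false, 9), (false, 30), (false, 4), (false, 10), (false, 29), (false, 5), (false, 6), (false, 3), (false, 2), (false, 0)], .cnt 0 [1, 0, 2, 3], .cell [(true, 19), (true, 2), (false, 15), (false, 8), (false, 12), (false, 11), (false, 6), (false, 14), (false, 13), (false, 7), (false, 16), (false, 10), (false, 9), (false, 5)], .cnt 0 [3, 4, 2, 5, 1, 6, 8], .cnt 0 [6, 5, 7, 4, 8, 3, 1, 11, 14, 2, 15, 13], .cnt 1 [1, 0], .cnt 5 [0, 1], .cell [(true, 54),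 (true, 10), (true, 39), (false, 27)], .cnt 0 [0], .cell [(true, 44), (true, 16), (true, 41), (true, 37), (false, 42)], .cnt 0 [0], .fin [5, 6, 31, 26, 62, 63, 38, 2, 0, 33, 37, 18, 40, 41, 43, 42, 19, 35, 25, 34, 39, 30, 44, 16, 17, 24, 7, 47, 4, 60, 36, 57, 52, 59, 14, 54, 48, 9, 56, 13, 49, 23, 10]] 30 = true := by decide +kernel

theorem ky38 : chkKey 3906 12 row 12 p38 key [0, 124, 155] = true := by decide +kernel

theorem wd38 : chkW 3906 12 gens p38 [10, 14, 15, 14, 10, 15, 10, 14, 15, 14, 16, 9] = true := by decide +kernel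

end Cfsg.Agent.H137.G25
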