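import Cfsg.Agent.H137.G25.Rep

/-!
# Certificates of the classes of `G₂(5)`, part 6 (helper137)
-/

set_option autoImplicit false
set_option maxRecDepth 1000000
set_option exponentiation.threshold 5000
set_option Elab.async false

namespace Cfsg.Agent.H137.G25

open Cfsg.Agent.H123.Cls

theorem bd6 : chkB 3906 12 row 12 p6 [(false, 1)]
    [.cnt 0 [0, 5], .cell [(false, 0), (false, 2)], .base 0 0 5, .cell [(true, 6), (true, 4), (false, 3), (false, 2)], .base 0 58 5, .cell [(true, 10), (true, 2), (false, 6), (false, 12), (false, 8), (false, 9), (false, 7), (false, 4)], .cnt 0 [3, 4, 5, 2, 6, 7, 1, 8, 0, 9], .cell [(true, 5), (true, 15), (false, 17), (false, 20), (false, 18), (false, 21), (false, 14), (false, 23)], .cnt 0 [4, 3, 5, 2, 6, 7, 8, 1, 0], .cnt 10 [6, 5, 4, 7, 8, 3, 9, 10, 2, 11, 13, 12, 15], .cnt 2 [2, 3, 1, 4, 0, 5], .cnt 6 [1, 2, 0], .cnt 10 [4, 5, 3, 6, 2], .cell [(true, 31), (true, 10), (true, 48), (true, 51), (false, 58)], .cnt 0 [0], .fin [9, 15, 48, 37, 6, 61, 50, 58,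 57, 54, 14, 56, 47, 0, 36, 5, 51, 60, 7, 35, 4, 53, 27, 28, 25, 46, 26, 12, 24, 3, 33, 10, 52, 8, 23, 45, 59, 22, 2]] 374999 = true := by decide +kernel

theorem ky6 : chkKey 3906 12 row 12 p6 key [31, 0, 0] = true := by decide +kernel

theorem wd6 : chkW 3906 12 gens p6 [10, 14, 15, 14, 9, 14, 9, 13, 15, 9, 15, 9, 10, 14, 15, 14, 10, 16, 10, 16, 14, 10, 13, 10] = true := by decide +kernel

theorem bd17 : chkB 3906 12 row 12 p17 [(false, 1), (false, 2), (false, 5), (true, 1), (true, 2), (true, 3), (true, 5)]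
    [.cell [(true, 2), (false, 3)], .base 0 32 10, .cell [(true, 7), (true, 3), (true, 1), (false, 9), (false, 2), (false, 13), (false, 8), (false, 6), (false, 14)], .cnt 0 [1, 0, 2, 3], .cell [(true, 13), (true, 17), (true, 2), (false, 19), (false, 7), (false, 12), (false, 9), (false, 5), (false, 10)], .cnt 0 [2, 1, 3, 0, 4, 5], .cell [(true, 23), (true, 4), (true, 10), (false, 26), (false, 16), (false, 21), (false, 19), (false, 14), (false, 18), (false, 20), (false, 13), (false, 12)], .cnt 0 [1, 2, 3, 0, 4], .cell [(true, 1), (true, 10), (true, 16), (false, 30), (false, 31), (false, 29), (false, 32), (false, 22), (false, 25), (false, 21), (false, 20), (false, 34), (false, 27), (false, 24), (false, 26), (false, 19)], .cnt 0 [1, 2, 0, 3, 4], .cnt 6 [16, 18, 19, 17, 15, 21, 14, 22, 20, 24, 8, 23, 49, 53, 56, 58], .cnt 5 [0], .cell [(true, 10), (true, 44), (true, 32), (true, 20)], .cnt 0 [0], .fin [41, 29, 23, 2, 36, 57, 55, 44, 47, 0, 35, 50, 22, 45, 52, 28, 43, 54, 49, 51, 34, 40, 48,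 56, 18, 46, 16, 17, 13, 12, 11, 15, 10, 60, 27, 6, 33, 21, 9, 7, 5, 4]] 599 = true := by decide +kernel

theorem ky17 : chkKey 3906 12 row 12 p17 key [12, 150, 270] = true := by decide +kernel

theorem wd17 : chkW 3906 12 gens p17 [10, 14, 15, 14, 13, 11, 13, 9, 10, 14, 15, 14, 10, 14, 12, 14] = true := by decide +kernel

theorem bd28 : chkB 3906 12 row 12 p28 [(false, 1), (false, 2), (false, 4), (false, 5), (true, 1), (true, 2), (true, 3), (true, 4), (true, 5), (true, 6), (true, 7)]
    [.cell [(true, 3), (true, 0), (true, 5), (false, 6)], .base 0 161 12, .cell [(true, 11), (true, 1), (true, 8), (true, 17), (false, 18), (false, 13)], .cnt 0 [0, 1, 2], .cell [(true, 2), (false, 22), (false, 19), (false, 18), (false, 20), (false, 21), (false, 7), (false, 5), (false, 11), (false, 9), (false, 10), (false, 17), (false, 4), (false, 15), (false, 13), (false, 8), (false, 25), (false, 6), (false, 14), (false, 12)], .cnt 0 [5, 4, 6, 7, 3, 2, 8, 9, 0, 10], .cnt 1 [4, 3, 5, 2, 8, 1, 6, 9], .cnt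 8 [10, 11, 9, 7, 12, 13, 18, 19, 14, 15, 17, 22, 24, 6], .cnt 6 [0, 2], .fin [37, 0, 57, 53, 33, 47, 42, 52, 39, 21, 46, 48, 45, 40, 41, 54, 23, 43, 49, 31, 44, 56, 32, 50, 1, 22, 30, 15, 14, 13, 55, 10, 58, 9, 29, 8, 18, 7, 5, 19, 3, 36, 27, 11, 6]] 19 = true := by decide +kernel

theorem ky28 : chkKey 3906 12 row 12 p28 key [4, 210, 230] = true := by decide +kernel

theorem wd28 : chkW 3906 12 gens p28 [10, 14, 15, 14, 9, 14, 11, 10, 14, 15, 14, 12, 13, 10] = true := by decide +kernel

theorem bd39 : chkB 3906 12 row 12 p39 [(true, 1), (true, 2), (true, 3), (true, 4), (true, 5), (true, 6), (true, 7), (true, 8)]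
    [.cell [(true, 6), (true, 4), (false, 7), (false, 5)], .base 0 437 12, .cell [(true, 10), (false, 14), (false, 18), (false, 15), (false, 19), (false, 6), (false, 16), (false, 17), (false, 13), (false, 4), (false, 5), (false, 2), (false, 3), (false, 20), (false, 0), (false, 9), (false, 8), (false, 11), (false, 7), (false, 1)], .cnt 0 [2, 3, 1, 4, 0, 5, 6], .cell [(true, 8), (true, 22), (true, 6), (false, 15), (false, 12), (false, 28), (false, 17), (false, 10), (false, 16), (false, 9), (false, 21)], .cnt 0 [0, 1, 2], .cell [(true, 13), (true, 25), (true, 31), (true, 10), (false, 15)], .cnt 0 [0, 1, 2], .cnt 8 [15, 17, 13, 16, 12, 11, 14, 9, 18, 19, 33, 37, 39], .cell [(true, 25), (true, 33), (true, 47), (true, 40), (true, 49), (false, 35)], .cnt 0 [0], .cell [(true, 10), (true, 42), (true, 51), (true, 33), (true, 28), (false, 47)], .cnt 0 [0], .cell [(true, 46), (true, 31), (true, 22), (true, 18), (false, 49), (false, 35), (false, 36), (false, 39), (false, 51), (false, 10), (false,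 52), (false, 47)], .cnt 0 [0], .fin [25, 21, 33, 49, 51, 2, 44, 4, 39, 41, 32, 36, 53, 42, 43, 48, 38, 37, 35, 46, 45, 40, 31, 0, 54, 52, 17, 15, 18, 14, 16, 13, 55, 24, 20, 29, 8, 12, 9, 6]] 30 = true := by decide +kernel

theorem ky39 : chkKey 3906 12 row 12 p39 key [0, 248, 155] = true := by decide +kernel

theorem wd39 : chkW 3906 12 gens p39 [10, 14, 15, 14, 15, 13, 13, 10, 14, 15, 14, 14, 14, 16] = true := by decide +kernel

end Cfsg.Agent.H137.G25
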