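import Cfsg.Agent.H137.G25.Rep

/-!
# Certificates of the classes of `G₂(5)`, part 7 (helper137)
-/

set_option autoImplicit false
set_option maxRecDepth 1000000
set_option exponentiation.threshold 5000
set_option Elab.async false

namespace Cfsg.Agent.H137.G25

open Cfsg.Agent.H123.Cls

theorem bd7 : chkB 3906 12 row 12 p7 [(false, 1), (true, 1)]
    [.base 0 39 5, .cell [(true, 5), (true, 4), (true, 2), (false, 3), (false, 1)], .base 0 1599 5, .cell [(true, 8), (true, 7), (false, 10), (false, 4), (false, 2), (false, 6), (false, 11), (false, 9), (false, 3), (false, 1), (false, 0)], .cnt 0 [2, 1, 4, 3, 5, 0], .cell [(true, 0), (true, 9), (true, 13), (false, 16), (false, 11)], .cnt 0 [1, 2, 3, 4, 0, 5], .cell [(true, 16), (true, 11), (true, 4), (false, 17), (false, 20), (false, 23), (false, 24), (false, 22), (false, 21), (false, 18), (false, 25), (false, 15)], .cnt 0 [1, 2, 0, 3, 4], .cnt 6 [7, 8, 6, 5, 9, 10, 4, 11, 3, 2, 12, 19, 20], .cnt 38 [2, 0, 1, 3], .cnt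 4 [1, 0], .cell [(true, 2), (true, 18), (true, 49), (true, 21), (true, 28)], .cnt 0 [0], .cell [(true, 16), (true, 48), (false, 0), (true, 7), (false, 45), (false, 43)], .cnt 0 [0], .cell [(true, 16), (true, 6), (true, 49), (true, 43)], .cnt 0 [0], .cell [(true, 19), (true, 41), (true, 51), (true, 48)], .cnt 0 [0], .fin [8, 13, 31, 38, 45, 2, 0, 48, 51, 37, 54, 42, 57, 30, 50, 6, 47, 53, 55, 56, 49, 44, 26, 25, 24, 4, 58, 21, 22, 12, 29, 36, 19, 43, 11]] 3749 = true := by decide +kernel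

theorem ky7 : chkKey 3906 12 row 12 p7 key [16, 375, 375] = true := by decide +kernel

theorem wd7 : chkW 3906 12 gens p7 [10, 14, 15, 14, 16, 16, 10, 14, 15, 14, 15, 15] = true := by decide +kernel

theorem bd18 : chkB 3906 12 row 12 p18 [(false, 1), (false, 2), (false, 5), (true, 1), (true, 3)]
    [.cell [(true, 1), (false, 0)], .base 0 14 10, .cell [(true, 10), (true, 6), (true, 2), (false, 9), (false, 5), (false, 3), (false, 7), (false, 1)], .cnt 0 [1, 2, 0, 3, 4], .cell [(true, 15), (true, 13), (true, 4), (false, 6), (false, 8), (false, 9), (false, 17), (false, 14), (false, 18), (false, 12), (false, 11)], .cnt 0 [2, 3, 1, 4, 0, 5, 6], .cnt 0 [7, 8, 6, 9, 5, 10, 4, 12, 3, 11, 2, 19, 21, 15], .cnt 0 [1, 2, 0, 3], .cnt 7 [7, 5, 8, 9, 6, 3, 4, 1], .cnt 0 [4, 5, 6], .cell [(true, 11), (true, 27), (true, 9), (true, 52), (false, 55)], .cnt 0 [0], .cell [(true, 34), (true, 28), (true, 51), (false, 0)], .cnt 0 [0], .fin [45, 18, 39, 5, 52, 47, 51, 2, 49, 0, 48,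 50, 17, 38, 6, 56, 53, 32, 44, 59, 58, 30, 29, 14, 12, 13, 10, 4, 37, 31, 28, 8, 43, 15, 55, 26, 9, 36]] 599 = true := by decide +kernel

theorem ky18 : chkKey 3906 12 row 12 p18 key [7, 0, 120] = true := by decide +kernel

theorem wd18 : chkW 3906 12 gens p18 [10, 14, 15, 14, 10, 11, 9, 16, 10, 14, 15, 14, 15, 10, 12, 9] = true := by decide +kernel

theorem bd29 : chkB 3906 12 row 12 p29 [(false, 7), (true, 1), (true, 2), (true, 3), (true, 4)]
    [.cell [(true, 3), (true, 1)], .base 0 832 12, .cell [(true, 6), (false, 13), (false, 14), (false, 15), (false, 7), (false, 5), (false, 16), (false, 8), (false, 11), (false, 0), (false, 3), (false, 1), (false, 4), (false, 9), (false, 17), (false, 2), (false, 10)], .cnt 0 [6, 7, 5, 4, 8, 9, 3, 10, 2, 11, 12], .cnt 0 [4, 5, 6, 3, 7, 2, 8, 9, 10, 12, 0, 13], .cnt 1 [2, 1, 3, 4, 6], .cnt 5 [1, 0], .cnt 9 [1, 2], .cell [(true, 30), (true, 39), (true, 20), (true, 37), (false, 46)], .cnt 0 [0], .fin [4, 3, 10, 22, 35, 46,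 43, 39, 42, 40, 38, 2, 8, 45, 50, 0, 49, 21, 36, 51, 41, 37, 20, 44, 31, 33, 32, 30, 19, 5, 7, 18, 52, 29, 27, 28, 9]] 20 = true := by decide +kernel

theorem ky29 : chkKey 3906 12 row 12 p29 key [0, 168, 21] = true := by decide +kernel

theorem wd29 : chkW 3906 12 gens p29 [10, 14, 15, 14, 15, 10, 14, 15, 14, 16] = true := by decide +kernel

theorem bd40 : chkB 3906 12 row 12 p40 [(true, 1), (true, 2), (true, 3), (true, 4)]
    [.cell [(true, 1), (true, 0), (false, 2)], .cnt 0 [14, 10, 11, 13, 6, 8, 9, 12, 7, 16, 4, 15, 17], .cell [(true, 12), (true, 17)], .base 0 320 12, .cell [(true, 25), (true, 5), (true, 1), (false, 3), (false, 27), (false, 30), (false, 11), (false, 7), (false, 6), (false, 4), (false, 2)], .cnt 0 [0, 1], .cell [(true, 20), (false, 33), (true, 1), (false, 8), (false, 4), (false, 13), (false, 11), (false, 6), (false, 9), (false, 3), (false, 10), (false, 7), (false, 5)], .cnt 0 [2, 1, 3, 4, 0, 5], .cnt 0 [12, 13, 14, 15, 16, 17, 18, 11, 19,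 20, 10, 22, 42, 7, 9, 27, 35, 43, 45], .cnt 5 [3, 4, 2, 1, 5, 7], .cell [(true, 56), (true, 2), (true, 41)], .cnt 0 [0], .fin [35, 32, 7, 64, 67, 0, 41, 45, 39, 43, 37, 42, 6, 31, 38, 44, 40, 48, 47, 46, 3, 66, 65, 62, 5, 30, 55, 23, 22, 24, 21, 26, 25, 18, 59, 20, 27, 56, 17, 4, 61, 19, 2]] 30 = true := by decide +kernel

theorem ky40 : chkKey 3906 12 row 12 p40 key [0, 62, 186] = true := by decide +kernel

theorem wd40 : chkW 3906 12 gens p40 [10, 14, 15, 14, 9, 10, 14, 15, 14, 10] = true := by decide +kernel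

end Cfsg.Agent.H137.G25
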