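import Cfsg.Agent.H137.G25.Rep

/-!
# Certificates of the classes of `G₂(5)`, part 8 (helper137)
-/

set_option autoImplicit false
set_option maxRecDepth 1000000
set_option exponentiation.threshold 5000
set_option Elab.async false

namespace Cfsg.Agent.H137.G25

open Cfsg.Agent.H123.Cls

theorem bd8 : chkB 3906 12 row 12 p8 [(false, 1), (true, 1), (true, 2)]
    [.cell [(true, 0), (false, 1)], .base 0 10 5, .cell [(true, 3), (true, 1), (true, 7), (false, 2), (false, 4), (false, 0)], .cnt 0 [4, 6, 5, 3, 2, 7, 8, 1, 9, 10, 0, 12], .cell [(true, 8), (true, 17), (false, 20), (false, 19), (false, 15), (false, 16), (false, 14)], .cnt 0 [3, 4, 2, 5, 1, 6, 0, 7, 8], .cell [(true, 20), (true, 8), (true, 30), (false, 27), (false, 26), (false, 24), (false, 23)], .cnt 0 [4, 5, 3, 2, 6, 1, 7, 8, 0], .cnt 22 [3, 2, 4, 1, 5, 6, 0, 7], .cnt 18 [4, 3, 5, 2, 6, 1, 9], .cnt 0 [7, 6, 5, 8, 3], .cell [(true, 7), (true, 35), (true, 16), (true, 48)], .cnt 0 [0], .fin [62, 21, 40, 61, 13,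 51, 30, 59, 58, 55, 56, 57, 0, 12, 28, 38, 20, 53, 29, 39, 52, 5, 6, 4, 3, 18, 10, 50, 27, 11, 37, 17, 46, 36, 26, 19, 7, 49, 34, 25, 9, 2]] 1249 = true := by decide +kernel

theorem ky8 : chkKey 3906 12 row 12 p8 key [6, 125, 125] = true := by decide +kernel

theorem wd8 : chkW 3906 12 gens p8 [10, 14, 15, 14, 11, 9, 11, 10, 14, 15, 14, 12, 10, 12] = true := by decide +kernel

theorem bd19 : chkB 3906 12 row 12 p19 [(false, 1), (false, 2), (false, 5), (true, 1), (true, 2), (true, 3), (true, 5)]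
    [.cell [(true, 2), (true, 0)], .base 0 88 10, .cell [(true, 4), (true, 1), (false, 9), (false, 12), (false, 14), (false, 6), (false, 11), (false, 8), (false, 7), (false, 5), (false, 3), (false, 2), (false, 0)], .cnt 0 [4, 5, 3, 2, 6, 1, 7, 8], .cell [(true, 15), (true, 5), (false, 16), (false, 17), (false, 14), (false, 20), (false, 10), (false, 22), (false, 12), (false, 21), (false, 18), (false, 23), (false, 11), (false, 9)], .cnt 0 [3, 4, 2, 5, 6, 1, 7, 0, 8], .cnt 1 [10, 8, 9, 11, 7, 12, 6, 13, 5, 14, 15, 3], .cnt 0 [4, 3, 2, 1, 5, 6], .cnt 18 [11, 9, 10, 7, 12, 19, 5, 8, 20, 23], .cell [(true, 20), (true, 41), (true, 11), (true, 50), (true, 48)], .cnt 0 [0], .cell [(true, 40), (true, 22), (true, 38)], .cnt 0 [0], .fin [18, 49, 40, 56, 58, 57, 53, 55, 54, 2, 0, 60, 59, 39, 19, 47, 51, 52, 17, 62, 38, 48, 13, 29, 30, 46, 37, 28, 31, 11, 27, 12, 64, 15, 10, 45, 26, 9, 5, 66, 65, 44, 7, 6, 4]] 49 = true := by decide +kernel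

theorem ky19 : chkKey 3906 12 row 12 p19 key [2, 75, 45] = true := by decide +kernel

theorem wd19 : chkW 3906 12 gens p19 [10, 14, 15, 14, 13, 13, 9, 10, 14, 15, 14, 10, 14, 14] = true := by decide +kernel

theorem bd30 : chkB 3906 12 row 12 p30 [(false, 7), (true, 1), (true, 2), (true, 3), (true, 4), (true, 5), (true, 6), (true, 8)]
    [.cell [(true, 5), (true, 1)], .base 0 74 12, .cell [(true, 11), (true, 10), (false, 16), (false, 1), (false, 4), (false, 18), (false, 0), (false, 19), (false, 7), (false, 2), (false, 9), (false, 17), (false, 14), (false, 13), (false, 8), (false, 3)], .cnt 0 [1, 0, 2, 3], .cell [(true, 19), (true, 3), (false, 13), (false, 6), (false, 16), (false, 15), (false, 14), (false, 22), (false, 18), (false, 24), (false, 20), (false, 10), (false, 12), (false, 9)], .cnt 0 [4, 3, 2, 5, 1, 7, 0, 6, 8], .cell [(true, 29), (true, 7), (true, 12), (false, 32), (false, 18), (false, 15), (false, 34), (false, 30), (false, 28), (false, 26), (false, 25)],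 .cnt 0 [1, 2, 0, 3], .cnt 5 [6, 7, 8, 5, 9, 13, 14, 2, 3, 4, 12, 17], .cnt 5 [4, 1, 2], .cell [(true, 10), (true, 25), (true, 53), (true, 36)], .cnt 0 [0], .cell [(true, 12), (true, 27), (true, 40), (true, 43)], .cnt 0 [0], .fin [37, 22, 4, 32, 45, 39, 49, 46, 42, 48, 50, 31, 54, 57, 47, 5, 0, 56, 55, 21, 36, 40, 2, 18, 53, 44, 30, 6, 17, 41, 29, 20, 16, 52, 58, 43, 14, 8]] 20 = true := by decide +kernel

theorem ky30 : chkKey 3906 12 row 12 p30 key [0, 168, 126] = true := by decide +kernel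

theorem wd30 : chkW 3906 12 gens p30 [10, 14, 15, 14, 9, 9, 12, 10, 14, 15, 14, 11, 10, 10] = true := by decide +kernel

theorem bd41 : chkB 3906 12 row 12 p41 [(true, 1), (true, 2), (true, 3), (true, 4)]
    [.cell [(true, 3), (true, 1)], .base 0 38 12, .cell [(true, 4), (true, 1), (true, 13), (false, 8), (false, 10), (false, 6), (false, 15), (false, 7), (false, 16), (false, 11), (false, 2)], .cnt 0 [0, 1, 3, 2], .cell [(true, 3), (false, 20), (false, 18), (false, 21), (false, 19), (false, 5), (false, 13), (false, 11), (false, 9), (false, 8), (false, 10), (false, 7), (false, 12), (false, 6), (false, 15), (false, 14), (false, 16)], .cnt 0 [7, 8, 6, 9, 5, 10, 4, 11, 3, 12, 2], .cnt 0 [9, 10, 11, 8, 7, 14, 12, 13, 2, 3, 6, 0, 1, 5], .cnt 5 [2, 1, 4, 0, 5], .cnt 6 [0, 2], .cell [(true, 17), (true, 31), (true, 54), (false, 1), (false, 45), (false, 49), (false, 47), (false, 41), (false, 6)], .cnt 0 [0], .fin [38, 3, 8, 56, 55, 44, 45, 43, 50, 51, 0, 40, 54, 42, 48, 47,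 7, 49, 53, 2, 33, 46, 37, 41, 32, 21, 29, 20, 22, 31, 30, 19, 16, 5, 13, 17, 12, 15, 27, 14, 25, 10]] 30 = true := by decide +kernel

theorem ky41 : chkKey 3906 12 row 12 p41 key [0, 155, 31] = true := by decide +kernel

theorem wd41 : chkW 3906 12 gens p41 [10, 14, 15, 14, 14, 10, 10, 14, 15, 14, 9, 13] = true := by decide +kernel

end Cfsg.Agent.H137.G25
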