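import Cfsg.Agent.H137.G25.Rep

/-!
# Certificates of the classes of `G₂(5)`, part 9 (helper137)
-/

set_option autoImplicit false
set_option maxRecDepth 1000000
set_option maxHeartbeats 200000
set_option exponentiation.threshold 5000
set_option Elab.async false

namespace Cfsg.Agent.H137.G25

open Cfsg.Agent.H123.Cls

theorem ky9 : chkKey 3906 12 row 12 p9 key [1, 0, 0] = true := by decide +kernel

theorem wd9 : chkW 3906 12 gens p9 [10, 14, 15, 14, 16, 14, 9, 11, 9, 15, 10, 14, 15, 14, 16, 10, 12, 10, 13, 15] = true := by decide +kernel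

theorem bd20 : chkB 3906 12 row 12 p20 [(false, 1), (false, 2), (false, 5), (true, 1), (true, 2), (true, 3), (true, 4), (true, 5)]
    [.cell [(true, 4), (true, 2), (false, 3), (false, 0)], .base 0 78 10, .cell [(true, 6), (false, 14), (false, 12), (false, 15), (false, 13), (false, 1), (false, 11), (false, 8), (false, 9), (false, 5), (false, 3), (false, 7), (false, 4), (false, 2), (false, 0)], .cnt 0 [2, 3, 4, 1, 5, 0], .cell [(true, 18), (true, 3), (true, 15), (true, 13), (false, 16), (false, 20)], .cnt 0 [0, 1], .cell [(true, 12), (true, 23), (true, 7), (true, 24), (false, 13), (false, 18), (false, 16), (true, 1)], .cnt 0 [0, 1, 2], .cell [(true, 23), (true, 14), (true, 12), (true, 1), (false, 26), (false, 29), (false, 28)], .cnt 0 [0, 1], .cell [(true, 22), (true, 17), (true, 32), (true, 14), (false, 29), (false, 30)], .cnt 0 [0, 1], .cell [(true, 22), (true, 17), (true, 34), (true, 8), (true, 4), (false, 33), (false, 26), (false, 35), (false, 32), (false, 23)], .cnt 0 [1, 0], .cell [(true, 24), (true, 21), (true, 6),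 (true, 13), (true, 10), (false, 1)], .cnt 0 [0], .cell [(true, 34), (true, 22), (true, 15), (true, 8), (true, 3), (true, 13), (false, 40), (false, 27)], .cnt 0 [0], .cell [(true, 35), (true, 29), (true, 25), (true, 42), (false, 27)], .cnt 0 [0], .cell [(true, 40), (true, 36), (true, 29), (true, 26), (true, 41), (false, 31)], .cnt 0 [0], .cell [(true, 39), (true, 34), (true, 32), (true, 21), (false, 2)], .cnt 0 [0], .cell [(true, 42), (true, 29), (true, 38), (false, 4), (true, 35)], .cnt 0 [0], .fin [23, 47, 12, 26, 16, 19, 32, 49, 48, 0, 39, 50, 33, 42, 38, 2, 37, 46, 41, 10, 8, 40, 31, 22, 4, 36, 44, 35, 6, 43, 29, 15, 30]] 49 = true := by decide +kernel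

theorem ky20 : chkKey 3906 12 row 12 p20 key [2, 275, 95] = true := by decide +kernel

theorem wd20 : chkW 3906 12 gens p20 [10, 14, 15, 14, 11, 11, 10, 10, 14, 15, 14, 9, 12, 12] = true := by decide +kernel

theorem bd31 : chkB 3906 12 row 12 p31 [(false, 1), (false, 4), (false, 6), (false, 8), (true, 1), (true, 2), (true, 3), (true, 4), (true, 5), (true, 6), (true, 7)]
    [.cell [(true, 6), (true, 0), (false, 5)], .base 0 504 12, .cell [(true, 1), (true, 13), (false, 18), (false, 14), (false, 16), (false, 8), (false, 4), (false, 7), (false, 17), (false, 15), (false, 11), (false, 5), (false, 3)], .cnt 0 [1, 2, 0, 3], .cell [(true, 14), (true, 20), (true, 13), (true, 5), (true, 3)], .cnt 0 [0, 1], .cell [(true, 3), (true, 22), (true, 26), (false, 27), (false, 18), (false, 10)], .cnt 0 [1, 0, 2], .cell [(true, 26), (true, 30), (true, 9), (true, 1), (false, 31), (false, 18)], .cnt 0 [0, 1], .cell [(true, 34), (true, 12), (true, 4), (true, 1), (true, 8), (false, 31), (false, 21), (false, 29), (false, 26), (false, 30), (false,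 19), (false, 15)], .cnt 0 [0, 1, 2], .cell [(true, 23), (true, 22), (true, 11), (true, 17), (true, 4), (true, 2), (false, 34)], .cnt 0 [0], .cell [(true, 29), (true, 24), (true, 23), (true, 18), (true, 13), (false, 39)], .cnt 0 [0], .cell [(true, 34), (true, 31), (true, 41), (true, 27), (true, 42)], .cnt 0 [0], .cell [(true, 34), (true, 42), (true, 28), (false, 0), (true, 7)], .cnt 0 [0], .fin [13, 10, 16, 25, 20, 43, 40, 44, 2, 32, 27, 38, 36, 34, 41, 0, 37, 42, 6, 31, 24, 29, 4, 28, 35, 30, 8, 17, 47, 45, 33, 46, 23, 9]] 23 = true := by decide +kernel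

theorem ky31 : chkKey 3906 12 row 12 p31 key [2, 180, 156] = true := by decide +kernel

theorem wd31 : chkW 3906 12 gens p31 [10, 14, 15, 14, 12, 13, 10, 14, 15, 14, 14, 11] = true := by decide +kernel

theorem bd42 : chkB 3906 12 row 12 p42 [(true, 1), (true, 2), (true, 3), (true, 4)]
    [.cell [(true, 3), (true, 0)], .base 0 10 12, .cell [(true, 0), (true, 15), (false, 14), (false, 16), (false, 1), (false, 3), (false, 11), (false, 5), (false, 2), (false, 13), (false, 10), (false, 9), (false, 7)], .cnt 0 [2, 3, 1, 4, 5, 0, 6], .cell [(true, 15), (true, 8), (true, 5), (false, 24), (false, 19), (false, 12), (false, 18), (false, 9), (false, 23), (false, 22), (false, 17), (false, 14), (false, 10)], .cnt 0 [1, 2, 0, 3, 4], .cnt 6 [14, 12, 13, 11, 10, 15, 8, 17, 16, 9, 18, 5, 7, 27], .cnt 2 [2, 1, 3, 4], .cnt 4 [0], .cell [(true, 13), (true, 20), (true, 29), (true, 46)], .cnt 0 [0], .cell [(true, 28), (true, 16), (true, 37), (true, 36)], .cnt 0 [0], .fin [27, 4, 35, 6, 51, 50, 2, 48, 44, 37, 42, 53, 34, 8, 41, 38, 40, 0, 45,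 26, 46, 52, 43, 39, 5, 33, 22, 47, 21, 18, 7, 20, 19, 14, 15, 25, 31]] 30 = true := by decide +kernel

theorem ky42 : chkKey 3906 12 row 12 p42 key [0, 124, 93] = true := by decide +kernel

theorem wd42 : chkW 3906 12 gens p42 [10, 14, 15, 14, 11, 15, 14, 10, 14, 15, 14, 13, 16, 12] = true := by decide +kernel

end Cfsg.Agent.H137.G25
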