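import Cfsg.Agent.H123.Cls.Keys

/-!
# The graph of valency 750 from the graph of valency 30 (helper137)

`aut30` : a permutation preserving collinearity preserves the graph of valency 750 (distance two).
-/

set_option autoImplicit false
set_option maxRecDepth 10000
set_option maxHeartbeats 100000
set_option exponentiation.threshold 5000
set_option Elab.async false

namespace Cfsg.Agent.H137.G25

open Equiv Subgroup Cfsg.Agent.H123.Cls Cfsg.Agent.Lib.BitNet
open Cfsg.Agent.Lib.BitNetSimple (force force_eq tb tb_eq)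

/-- the bits `12 + f (entry j)`, `j < k`, and `acc` (the low bits of `acc` are a tag, for the hash table of the kernel) -/
noncomputable def mkA (f : ℕ → ℕ) (x acc k : ℕ) : ℕ :=
  Nat.rec acc (fun j a => force a fun a => force (f (lk 12 x j)) fun y => Nat.lor a (Nat.shiftLeft 4096 y)) k

theorem mkA_succ (f : ℕ → ℕ) (x acc k : ℕ) :
    mkA f x acc (k + 1) = mkA f x acc k ||| Nat.shiftLeft 4096 (f (lk 12 x k)) := by
  show (force (mkA f x acc k) fun a => force (f (lk 12 x k)) fun y => Nat.lor a (Nat.shiftLeft 4096 y)) = _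
  rw [force_eq, force_eq]
  rfl

theorem testBit_4096 (y i : ℕ) : (Nat.shiftLeft 4096 y).testBit (i + 12) = decide (y = i) := by
  have h : Nat.shiftLeft 4096 y = 2 ^ (y + 12) := by
    change 4096 <<< y = _
    rw [Nat.shiftLeft_eq, pow_add]
    norm_num
    ring
  rw [h, Nat.testBit_two_pow]
  exact decide_eq_decide.2 ⟨fun h => by omega, fun h => by omega⟩

theorem testBit_mkA (f : ℕ → ℕ) (x acc i : ℕ) : ∀ k, (mkA f x acc k).testBit (i + 12) = true ↔
    (acc.testBit (i + 12) = true ∨ ∃ j < k, f (lk 12 x j) = i)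
  | 0 => by
    show acc.testBit (i + 12) = true ↔ _
    simp
  | k + 1 => by
    rw [mkA_succ, Nat.testBit_or, Bool.or_eq_true, testBit_mkA f x acc i k, testBit_4096, decide_eq_true_iff]
    constructor
    · rintro ((h | ⟨j, hj, h⟩) | h)
      · exact Or.inl h
      · exact Or.inr ⟨j, by omega, h⟩
      · exact Or.inr ⟨k, by omega, h⟩
    · rintro (h | ⟨j, hj, h⟩)
      · exact Or.inl (Or.inl h)
      · rcases Nat.lt_succ_iff_lt_or_eq.1 hj with h1 | h1
        · exact Or.inl (Or.inr ⟨j, h1, h⟩)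
        · subst h1
          exact Or.inr h

/-- the points `f (entry j)`, `j < k`; tag `u` -/
noncomputable def mkM (f : ℕ → ℕ) (x u k : ℕ) : ℕ := Nat.shiftRight (mkA f x (Nat.land u 4095) k) 12

theorem testBit_tag (u i : ℕ) : (Nat.land u 4095).testBit (i + 12) = false := by
  change (u &&& 4095).testBit (i + 12) = false
  rw [Nat.testBit_and]
  have h : (4095 : ℕ).testBit (i + 12) = false := by
    apply Nat.testBit_lt_two_pow
    calc (4095 : ℕ) < 2 ^ 12 := by norm_num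
      _ ≤ 2 ^ (i + 12) := Nat.pow_le_pow_right (by norm_num) (by omega)
  rw [h, Bool.and_false]

theorem testBit_mkM (f : ℕ → ℕ) (x u i k : ℕ) : (mkM f x u k).testBit i = true ↔ ∃ j < k, f (lk 12 x j) = i := by
  have e : (mkM f x u k).testBit i = (mkA f x (Nat.land u 4095) k).testBit (i + 12) := by
    change ((mkA f x (Nat.land u 4095) k) >>> 12).testBit i = _
    rw [Nat.testBit_shiftRight, add_comm]
  rw [e, testBit_mkA, testBit_tag]
  simp

/-- the union of the `g (entry j)`, `j < k`, and `acc` -/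
noncomputable def unM (g : ℕ → ℕ) (x acc k : ℕ) : ℕ :=
  Nat.rec acc (fun j a => force a fun a => force (lk 12 x j) fun y => Nat.lor a (g y)) k

theorem unM_succ (g : ℕ → ℕ) (x acc k : ℕ) :
    unM g x acc (k + 1) = unM g x acc k ||| g (lk 12 x k) := by
  show (force (unM g x acc k) fun a => force (lk 12 x k) fun y => Nat.lor a (g y)) = _
  rw [force_eq, force_eq]
  rfl

theorem testBit_unM (g : ℕ → ℕ) (x acc i : ℕ) : ∀ k, (unM g x acc k).testBit i = true ↔
    (acc.testBit i = true ∨ ∃ j < k, (g (lk 12 x j)).testBit i = true)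
  | 0 => by
    show acc.testBit i = true ↔ _
    simp
  | k + 1 => by
    rw [unM_succ, Nat.testBit_or, Bool.or_eq_true, testBit_unM g x acc i k]
    constructor
    · rintro ((h | ⟨j, hj, h⟩) | h)
      · exact Or.inl h
      · exact Or.inr ⟨j, by omega, h⟩
      · exact Or.inr ⟨k, by omega, h⟩
    · rintro (h | ⟨j, hj, h⟩)
      · exact Or.inl (Or.inl h)
      · rcases Nat.lt_succ_iff_lt_or_eq.1 hj with h1 | h1
        · exact Or.inl (Or.inr ⟨j, h1, h⟩)
        · subst h1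
          exact Or.inr h

/-- the rows of collinearity -/
noncomputable def hxG (nb : ℕ → ℕ) (u : ℕ) : ℕ := force (nb u) fun x => mkM (fun y => y) x u 30

/-- the same, shifted -/
noncomputable def hS (nb : ℕ → ℕ) (u : ℕ) : ℕ := Nat.shiftLeft (hxG nb u) 12

theorem testBit_sh (x i : ℕ) : (Nat.shiftLeft x 12).testBit (i + 12) = x.testBit i := by
  change (x <<< 12).testBit (i + 12) = _
  rw [Nat.testBit_shiftLeft]
  simp

section

variable {nb R : ℕ → ℕ}

theorem testBit_hxG (u i : ℕ) : (hxG nb u).testBit i = true ↔ ∃ j < 30, lk 12 (nb u) j = i := by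
  rw [hxG, force_eq, testBit_mkM]

/-- the entries are points -/
noncomputable def chkNb (nb : ℕ → ℕ) : Bool :=
  allN (fun u => force (nb u) fun x => allN (fun j => Nat.blt (lk 12 x j) 3906) 30) 3906

theorem nb_lt (hnb : chkNb nb = true) (u : ℕ) (hu : u < 3906) (j : ℕ) (hj : j < 30) : lk 12 (nb u) j < 3906 := by
  have h := (allN_iff _ _).1 hnb u hu
  rw [force_eq] at h
  have h2 := (allN_iff _ _).1 h j hj
  rwa [Nat.blt_eq] at h2

/-- distance at most one, shifted, tag -/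
noncomputable def b1 (nb : ℕ → ℕ) (u : ℕ) : ℕ :=
  Nat.lor (hS nb u) (Nat.lor (Nat.shiftLeft 4096 u) (Nat.land u 4095))

/-- the row of valency 750 -/
noncomputable def chkRow (nb R : ℕ → ℕ) (u : ℕ) : Bool :=
  force (b1 nb u) fun b => force (Nat.shiftLeft (R u) 12) fun r => band (Nat.beq (Nat.land r b) 0)
    (Nat.beq (Nat.lor r b) (force (nb u) fun x => unM (hS nb) x b 30))

/-- the table preserves collinearity -/
noncomputable def chk30 (nb : ℕ → ℕ) (P : ℕ) : Bool :=
  allN (fun u => Nat.beq (force (nb u) fun x => mkM (lk 12 P) x u 30) (force (lk 12 P u) (hxG nb))) 3906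

theorem mem_aut30 (hnb : chkNb nb = true) {P : ℕ} {r : Perm (Fin 3906)} (hr : ∀ i, (r i : ℕ) = lk 12 P i)
    (h : chk30 nb P = true) : r ∈ Aut 3906 (hxG nb) := by
  rw [mem_Aut]
  intro u v
  have h1 := (allN_iff _ _).1 h u u.2
  rw [force_eq, force_eq] at h1
  have h2 := Nat.eq_of_beq_eq_true h1
  rw [hr u, ← h2, Bool.eq_iff_iff, testBit_mkM, testBit_hxG]
  constructor
  · rintro ⟨j, h4, h5⟩
    refine ⟨j, h4, ?_⟩
    have hq := nb_lt hnb u u.2 j h4
    rw [← hr ⟨_, hq⟩] at h5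
    exact congrArg Fin.val (r.injective (Fin.ext h5))
  · rintro ⟨j, h4, h5⟩
    exact ⟨j, h4, by rw [h5, hr]⟩

theorem prop_aux {A B C : Prop} (t1 : ¬ (A ∧ B)) (t2 : (A ∨ B) ↔ (B ∨ C)) : A ↔ (C ∧ ¬ B) :=
  ⟨fun h => ⟨(t2.1 (Or.inl h)).resolve_left fun h1 => t1 ⟨h, h1⟩, fun h1 => t1 ⟨h, h1⟩⟩,
    fun h => (t2.2 (Or.inr h.1)).resolve_right h.2⟩

theorem b1_iff (u v : Fin 3906) : (b1 nb u).testBit ((v : ℕ) + 12) = true ↔
    ((hxG nb u).testBit v = true ∨ v = u) := by
  unfold b1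
  show (hS nb u ||| (Nat.shiftLeft 4096 u ||| Nat.land u 4095)).testBit ((v : ℕ) + 12) = true ↔ _
  rw [Nat.testBit_or, Nat.testBit_or, testBit_tag, Bool.or_false, Bool.or_eq_true, testBit_4096, decide_eq_true_iff, hS,
    testBit_sh]
  exact or_congr Iff.rfl ⟨fun h => Fin.ext h.symm, fun h => by rw [h]⟩

theorem row_iff (hnb : chkNb nb = true) (hc : allN (chkRow nb R) 3906 = true) (u v : Fin 3906) :
    (R u).testBit v = true ↔
    (∃ w : Fin 3906, (hxG nb u).testBit w = true ∧ (hxG nb w).testBit v = true) ∧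
      ¬ ((hxG nb u).testBit v = true ∨ v = u) := by
  have h := (allN_iff _ _).1 hc u u.2
  unfold chkRow at h
  rw [force_eq, force_eq, force_eq] at h
  obtain ⟨h1, h2⟩ := band_true h
  have e1 : (Nat.shiftLeft (R u) 12) &&& (b1 nb u) = 0 := Nat.eq_of_beq_eq_true h1
  have e2 : (Nat.shiftLeft (R u) 12) ||| (b1 nb u) = unM (hS nb) (nb u) (b1 nb u) 30 := Nat.eq_of_beq_eq_true h2
  have t1 : ¬ ((R u).testBit v = true ∧ (b1 nb u).testBit ((v : ℕ) + 12) = true) := by
    intro h3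
    have h4 := congrArg (fun z => z.testBit ((v : ℕ) + 12)) e1
    simp only [Nat.testBit_and, testBit_sh, h3.1, h3.2, Nat.zero_testBit] at h4
    exact absurd h4 (by decide)
  have t2 : ((R u).testBit v = true ∨ (b1 nb u).testBit ((v : ℕ) + 12) = true) ↔
      ((b1 nb u).testBit ((v : ℕ) + 12) = true ∨ ∃ j < 30, (hS nb (lk 12 (nb u) j)).testBit ((v : ℕ) + 12) = true) := by
    rw [← testBit_unM, ← e2, Nat.testBit_or, Bool.or_eq_true, testBit_sh]
  have t3 : (∃ j < 30, (hS nb (lk 12 (nb u) j)).testBit ((v : ℕ) + 12) = true) ↔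
      (∃ w : Fin 3906, (hxG nb u).testBit w = true ∧ (hxG nb w).testBit v = true) := by
    constructor
    · rintro ⟨j, hj, h3⟩
      rw [hS, testBit_sh] at h3
      exact ⟨⟨_, nb_lt hnb u u.2 j hj⟩, (testBit_hxG _ _).2 ⟨j, hj, rfl⟩, h3⟩
    · rintro ⟨w, h3, h4⟩
      obtain ⟨j, hj, h5⟩ := (testBit_hxG _ _).1 h3
      exact ⟨j, hj, by rw [h5, hS, testBit_sh]; exact h4⟩
  rw [← t3, ← b1_iff]
  exact prop_aux t1 t2

theorem aut30 (hnb : chkNb nb = true) (hc : allN (chkRow nb R) 3906 = true) {r : Perm (Fin 3906)}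
    (h : r ∈ Aut 3906 (hxG nb)) : r ∈ Aut 3906 R := by
  rw [mem_Aut] at h ⊢
  intro u v
  rw [Bool.eq_iff_iff, row_iff hnb hc, row_iff hnb hc, h u v, r.injective.eq_iff]
  refine and_congr ?_ Iff.rfl
  constructor
  · rintro ⟨w, h1, h2⟩
    refine ⟨r⁻¹ w, ?_, ?_⟩
    · rw [← h, show r (r⁻¹ w) = w from Equiv.apply_symm_apply r w]
      exact h1
    · rw [← h, show r (r⁻¹ w) = w from Equiv.apply_symm_apply r w]
      exact h2
  · rintro ⟨w, h1, h2⟩
    exact ⟨r w, by rw [h]; exact h1, by rw [h]; exact h2⟩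

/-! ### a mask invariant under the centralizer -/

/-- no point collinear with `p` is joined to `r p` and `s p` -/
def Zr (nb R : ℕ → ℕ) (r s : Perm (Fin 3906)) (p : Fin 3906) : Prop :=
  ∀ q : Fin 3906, ¬ ((hxG nb p).testBit q = true ∧ (R (r p)).testBit q = true ∧ (R (s p)).testBit q = true)

theorem Zr_conj {σ r s r' s' : Perm (Fin 3906)} (h1 : σ ∈ Aut 3906 (hxG nb)) (h2 : σ ∈ Aut 3906 R)
    (e1 : ∀ p, r' (σ p) = σ (r p)) (e2 : ∀ p, s' (σ p) = σ (s p)) (p : Fin 3906) :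
    Zr nb R r' s' (σ p) ↔ Zr nb R r s p := by
  unfold Zr
  rw [e1, e2]
  constructor
  · intro h q
    have h3 := h (σ q)
    rwa [mem_Aut.1 h1 p q, mem_Aut.1 h2 (r p) q, mem_Aut.1 h2 (s p) q] at h3
  · intro h q
    have h3 := h (σ⁻¹ q)
    have e : σ (σ⁻¹ q) = q := Equiv.apply_symm_apply σ q
    rw [← mem_Aut.1 h1 p, ← mem_Aut.1 h2 (r p), ← mem_Aut.1 h2 (s p), e] at h3
    exact h3

/-- the mask of the points with this property -/
noncomputable def zM (nb R : ℕ → ℕ) (P : ℕ) (S : ℕ → ℕ) : ℕ :=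
  bld (fun p => band (Nat.blt p 3906)
    (Nat.beq (Nat.land (hxG nb p) (Nat.land (R (lk 12 P p)) (R (S p)))) 0)) 12 0

theorem testBit_zM (hnb : chkNb nb = true) {P : ℕ} {S : ℕ → ℕ} {r s : Perm (Fin 3906)}
    (hr : ∀ i, (r i : ℕ) = lk 12 P i) (hs : ∀ i : Fin 3906, (s i : ℕ) = S i)
    (p : Fin 3906) : (zM nb R P S).testBit p = true ↔ Zr nb R r s p := by
  have hp : decide ((p : ℕ) < 2 ^ 12) = true := decide_eq_true (lt_of_lt_of_le p.2 (by norm_num))
  have hp2 : Nat.blt (p : ℕ) 3906 = true := by rw [Nat.blt_eq]; exact p.2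
  rw [zM, testBit_bld, hp, Bool.true_and, band_eq, zero_add, ← hr p, ← hs p]
  have hb : ∀ i, (Nat.land (hxG nb p) (Nat.land (R (r p)) (R (s p)))).testBit i = true ↔
      ((hxG nb p).testBit i = true ∧ (R (r p)).testBit i = true ∧ (R (s p)).testBit i = true) := by
    intro i
    show ((hxG nb p) &&& ((R (r p)) &&& (R (s p)))).testBit i = true ↔ _
    rw [Nat.testBit_and, Nat.testBit_and, Bool.and_eq_true, Bool.and_eq_true]
  constructor
  · rintro ⟨-, h⟩ q h3
    have h4 := (hb q).2 h3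
    rw [Nat.eq_of_beq_eq_true h, Nat.zero_testBit] at h4
    exact absurd h4 (by decide)
  · intro h
    refine ⟨hp2, ?_⟩
    have h0 : Nat.land (hxG nb p) (Nat.land (R (r p)) (R (s p))) = 0 := by
      apply Nat.eq_of_testBit_eq
      intro i
      rw [Nat.zero_testBit]
      by_contra h3
      have h4 := (hb i).1 (by simpa using h3)
      obtain ⟨j, hj, h5⟩ := (testBit_hxG _ _).1 h4.1
      have hi : i < 3906 := by
        rw [← h5]
        exact nb_lt hnb p p.2 j hj
      exact h ⟨i, hi⟩ h4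
    rw [h0]
    rfl

theorem inv_zM (hnb : chkNb nb = true) {P : ℕ} {S : ℕ → ℕ} {σ r s : Perm (Fin 3906)}
    (hr : ∀ i, (r i : ℕ) = lk 12 P i) (hs : ∀ i : Fin 3906, (s i : ℕ) = S i)
    (h1 : σ ∈ Aut 3906 (hxG nb)) (h2 : σ ∈ Aut 3906 R) (e1 : ∀ i, σ (r i) = r (σ i)) (e2 : ∀ i, σ (s i) = s (σ i)) :
    Inv σ (zM nb R P S) := by
  intro p
  rw [Bool.eq_iff_iff, testBit_zM hnb hr hs, testBit_zM hnb hr hs,
    Zr_conj h1 h2 (fun p => (e1 p).symm) (fun p => (e2 p).symm)]

/-- the bound with the additional mask -/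
noncomputable def chkQ (nb R : ℕ → ℕ) (P : ℕ) (l : List (Bool × ℕ)) (L : List Cfsg.Agent.H123.Cls.Ins) (N : ℕ) : Bool :=
  force (zM nb R P fun p => lk 12 P (lk 12 P p)) fun m =>
    Nat.beq (start 3906 12 R 12 P l [m] fun st => run 3906 12 R 12 P L st) (Nat.succ N)

theorem card_le_Q (hnb : chkNb nb = true) {P : ℕ} {r : Perm (Fin 3906)} (hr : ∀ i, (r i : ℕ) = lk 12 P i)
    {l : List (Bool × ℕ)} {L : List Cfsg.Agent.H123.Cls.Ins} {N : ℕ} (h : chkQ nb R P l L N = true)
    {H : Subgroup (Perm (Fin 3906))}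
    (hH1 : H ≤ Aut 3906 (hxG nb)) (hH : H ≤ Aut 3906 R) (hc : Comm r H) : Nat.card H ≤ N + 1 := by
  unfold chkQ at h
  rw [force_eq] at h
  have h1 := Nat.eq_of_beq_eq_true h
  have hn : 3906 ≤ 2 ^ 12 := by norm_num
  obtain ⟨st', h2, h3⟩ := start_spec (n := 3906) (row := R) hn hr l [zM nb R P fun p => lk 12 P (lk 12 P p)]
  rw [h2] at h1
  have h5 : run 3906 12 R 12 P L st' = N + 1 := h1
  rw [← h5]
  refine run_sound hn hr L st' (by rw [h5]; exact Nat.succ_ne_zero N) H hH hc fun σ hσ => ?_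
  refine h3 σ (hH hσ) (hc σ hσ) fun x hx => ?_
  rw [List.mem_singleton.1 hx]
  refine inv_zM hnb hr (s := r * r) (fun i => ?_) (hH1 hσ) (hH hσ) (hc σ hσ) fun i => ?_
  · rw [Perm.mul_apply, hr, hr]
  · rw [Perm.mul_apply, Perm.mul_apply, hc σ hσ, hc σ hσ]

/-! ### an invariant of conjugacy classes -/

/-- the number of points with the property for `r`, `r ^ 3` -/
noncomputable def cn (nb R : ℕ → ℕ) (r : Perm (Fin 3906)) : ℕ :=
  Nat.card {p : Fin 3906 // Zr nb R r (r * r * r) p}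

theorem cn_conj {σ : Perm (Fin 3906)} (h1 : σ ∈ Aut 3906 (hxG nb)) (h2 : σ ∈ Aut 3906 R)
    (r : Perm (Fin 3906)) : cn nb R (σ * r * σ⁻¹) = cn nb R r := by
  have e : ∀ p : Fin 3906, (σ * r * σ⁻¹) (σ p) = σ (r p) := fun p => by
    rw [Perm.mul_apply, Perm.mul_apply]
    exact congrArg (fun q => σ (r q)) (Equiv.symm_apply_apply σ p)
  unfold cn
  refine (Nat.card_congr (Equiv.subtypeEquiv σ fun p => ?_)).symm
  rw [Zr_conj h1 h2 e (fun p => ?_)]
  rw [Perm.mul_apply, Perm.mul_apply, e, e, e, Perm.mul_apply, Perm.mul_apply]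

/-- the number by table -/
noncomputable def chkCn (nb R : ℕ → ℕ) (P m : ℕ) : Bool :=
  force (zM nb R P fun p => lk 12 P (lk 12 P (lk 12 P p))) fun M => Nat.beq (popF 12 M) m

theorem cn_of_chk (hnb : chkNb nb = true) {P : ℕ} {r : Perm (Fin 3906)} (hr : ∀ i, (r i : ℕ) = lk 12 P i) {m : ℕ}
    (h : chkCn nb R P m = true) : cn nb R r = m := by
  unfold chkCn at h
  rw [force_eq] at h
  rw [← Nat.eq_of_beq_eq_true h, popF_eq]
  have hlt : ∀ i, (zM nb R P fun p => lk 12 P (lk 12 P (lk 12 P p))).testBit i = true → i < 3906 := fun i h => by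
    rw [zM, testBit_bld, Bool.and_eq_true, band_eq, zero_add, Nat.blt_eq] at h
    exact h.2.1
  have h1 := card_pts_le (n := 3906) (K := 12) (by norm_num) (zM nb R P fun p => lk 12 P (lk 12 P (lk 12 P p)))
  have h2 := card_pts_eq (n := 3906) (K := 12) (x := zM nb R P fun p => lk 12 P (lk 12 P (lk 12 P p))) hlt
  rw [le_antisymm h2 h1, cn, ← Fintype.card_coe, ← Nat.card_eq_fintype_card]
  refine Nat.card_congr (Equiv.subtypeEquivRight fun i => ?_)
  rw [mem_pts, testBit_zM hnb hr (s := r * r * r)]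
  intro i
  rw [Perm.mul_apply, Perm.mul_apply, hr, hr, hr]

end

end Cfsg.Agent.H137.G25
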