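import Cfsg.Agent.H137.G25.Nb
import Cfsg.Agent.H137.G25.Dat

/-!
# The checks of the collinearity graph (helper137)
-/

set_option autoImplicit false
set_option maxRecDepth 1000000
set_option maxHeartbeats 100000
set_option exponentiation.threshold 5000
set_option Elab.async false

namespace Cfsg.Agent.H137.G25

open Cfsg.Agent.H123.Cls

theorem nb_chk : chkNb nbl = true := by decide +kernel

theorem ma : chk30 nbl t11 = true := by decide +kernel
theorem mb : chk30 nbl t9 = true := by decide +kernel
theorem mc : chk30 nbl t13 = true := by decide +kernel
theorem md : chk30 nbl t15 = true := by decide +kernel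

end Cfsg.Agent.H137.G25
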