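import Cfsg.Agent.H137.G25.Aut
import Cfsg.Agent.H137.G25.HexC
import Cfsg.Agent.H137.G25.HexR
import Cfsg.Agent.SporRec.LyG2.G14

/-!
# `G₂(5)` as a permutation group on 3906 points (helper137)

`eN : chevG2.group (ZMod 5) ≃* N`, `card_N`, `N_le_aut`.
-/

set_option autoImplicit false
set_option maxRecDepth 1000000
set_option maxHeartbeats 200000
set_option exponentiation.threshold 5000
set_option Elab.async false

namespace Cfsg.Agent.H137.G25

open Equiv Subgroup Cfsg.Agent.H123.Cls Cfsg.Agent.Lib.BitNet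
open Cfsg.Agent.Lib.BitNetSimple (force force_eq tb tb_eq)
open Cfsg.Agent.SporRec.LyG2 Cfsg.Agent.SporRec.LyG2.Rel Cfsg.Agent.SporRec.LyG2.Pres
open Cfsg.Agent.SporadicRecognition.CosetCert (ev ev_nil ev_cons)

/-- the letters of `Rel` -/
noncomputable abbrev co : ℕ → Perm (Fin 3906) := col1 (ga 11) (ga 9) (ga 13) (ga 15) (ga 8) (ga 6) (ga 2) (ga 0) (ga 4)

theorem co_eq : ∀ (n : ℕ) (h : n < 17), co n = ga ⟨n, h⟩ := by
  intro n h
  interval_cases n
  · rfl
  · exact (ga_iv 0).symm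
  · rfl
  · exact (ga_iv 2).symm
  · rfl
  · exact (ga_iv 4).symm
  · rfl
  · exact (ga_iv 6).symm
  · rfl
  · rfl
  · exact (ga_iv 9).symm
  · rfl
  · exact (ga_iv 11).symm
  · rfl
  · exact (ga_iv 13).symm
  · rfl
  · exact (ga_iv 15).symm

theorem ev_tab : ∀ (w : List ℕ), (∀ x ∈ w, x < 17) → ∀ p : Fin 3906, (ev co w p : ℕ) = evw 12 gens w p
  | [], _, _ => rfl
  | x :: w, h, p => by
    rw [ev_cons, Perm.mul_apply, co_eq x (h x List.mem_cons_self), ga_tab,
      ev_tab w (fun y hy => h y (List.mem_cons_of_mem _ hy)), evw_cons]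

theorem rels_chk : (T1Data.rels.all fun w => band (chkL 17 w) (allN (fun p => Nat.beq (evw 12 gens w p) p) 3906)) = true := by
  decide +kernel

theorem ee_chk : allN (fun p => Nat.beq (evw 12 gens [8, 8] p) p) 3906 = true := by decide +kernel

theorem holds : Holds (ga 11) (ga 9) (ga 13) (ga 15) (ga 8) (ga 6) (ga 2) (ga 0) (ga 4) := by
  constructor
  · intro w hw
    obtain ⟨h1, h2⟩ := band_true (List.all_eq_true.1 rels_chk w hw)
    ext p
    refine (ev_tab w (chkL_iff _ w h1) p).trans ?_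
    exact Nat.eq_of_beq_eq_true ((allN_iff _ _).1 h2 p p.2)
  · ext p
    have h := Nat.eq_of_beq_eq_true ((allN_iff _ _).1 ee_chk p p.2)
    rw [evw_cons, evw_cons] at h
    rw [Perm.mul_apply, ga_tab, ga_tab]
    exact h

/-- the homomorphism -/
noncomputable def hm : P44 →* Perm (Fin 3906) := hom holds

theorem hm_pg (i : Fin 9) : hm (pg i) = ![ga 11, ga 9, ga 13, ga 15, ga 8, ga 6, ga 2, ga 0, ga 4] i := hom_pg holds i

theorem ga_ne : ga 11 ≠ 1 := by
  intro h
  have h1 : allN (fun p => Nat.beq (lk 12 t11 p) p) 3906 = false := by decide +kernel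
  have h2 : allN (fun p => Nat.beq (lk 12 t11 p) p) 3906 = true := by
    rw [allN_iff]
    intro i hi
    have h3 : (ga 11 ⟨i, hi⟩ : ℕ) = lk 12 t11 i := rfl
    rw [← h3, h, Perm.one_apply]
    exact Nat.beq_refl i
  rw [h1] at h2
  cases h2

theorem inj_hm : Function.Injective hm := by
  have := Simple.isSimpleGroup_P44
  rw [← MonoidHom.ker_eq_bot_iff]
  rcases (MonoidHom.normal_ker hm).eq_bot_or_eq_top with h | h
  · exact h
  · exfalso
    have h2 : pg 0 ∈ hm.ker := by rw [h]; exact mem_top _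
    rw [MonoidHom.mem_ker, hm_pg] at h2
    exact ga_ne h2

/-- `G₂(5)` on the 3906 points -/
noncomputable def N : Subgroup (Perm (Fin 3906)) := hm.range

theorem pg_mem (i : Fin 9) : hm (pg i) ∈ N := ⟨_, rfl⟩

theorem ga_mem (i : Fin 17) : ga i ∈ N := by
  have key : ∀ i : Fin 17, ga i ∈ N → ga (ivF i) ∈ N := fun i h => by rw [ga_iv]; exact N.inv_mem h
  have h0 := pg_mem 0
  have h1 := pg_mem 1
  have h2 := pg_mem 2
  have h3 := pg_mem 3
  have h4 := pg_mem 4
  have h5 := pg_mem 5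
  have h6 := pg_mem 6
  have h7 := pg_mem 7
  have h8 := pg_mem 8
  rw [hm_pg] at h0 h1 h2 h3 h4 h5 h6 h7 h8
  fin_cases i
  · exact h7
  · exact key 0 h7
  · exact h6
  · exact key 2 h6
  · exact h8
  · exact key 4 h8
  · exact h5
  · exact key 6 h5
  · exact h4
  · exact h1
  · exact key 9 h1
  · exact h0
  · exact key 11 h0
  · exact h2
  · exact key 13 h2
  · exact h3
  · exact key 15 h3

theorem W_mem (w : List (Fin 17)) : W w ∈ N := by
  refine Subgroup.list_prod_mem _ fun g hg => ?_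
  obtain ⟨i, _, rfl⟩ := List.mem_map.1 hg
  exact ga_mem i

theorem Y_pg : Simple.Y 0 = pg 0 ∧ Simple.Y 2 = pg 1 ∧ Simple.Y 4 = pg 2 ∧ Simple.Y 6 = pg 3 := by
  refine ⟨?_, ?_, ?_, ?_⟩ <;> apply M7.φ_injective <;> rw [Simple.φ_Y]
  · exact (hom_pg M7.holds_X 0).symm
  · exact (hom_pg M7.holds_X 1).symm
  · exact (hom_pg M7.holds_X 2).symm
  · exact (hom_pg M7.holds_X 3).symm

/-- `P44` is generated by `a, b, c, d`. -/
theorem closure_four : Subgroup.closure ({pg 0, pg 1, pg 2, pg 3} : Set P44) = ⊤ := by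
  obtain ⟨h0, h1, h2, h3⟩ := Y_pg
  apply Simple.eq_top_of_mem
  · rw [h0]; exact Subgroup.subset_closure (by simp)
  · rw [h1]; exact Subgroup.subset_closure (by simp)
  · rw [h2]; exact Subgroup.subset_closure (by simp)
  · rw [h3]; exact Subgroup.subset_closure (by simp)

theorem N_le_hex : N ≤ Aut 3906 (hxG nbl) := by
  rw [N, MonoidHom.range_eq_map, ← closure_four, MonoidHom.map_closure, closure_le]
  rintro _ ⟨x, rfl | rfl | rfl | rfl, rfl⟩
  · rw [hm_pg]; exact mem_aut30 nb_chk (ga_tab 11) ma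
  · rw [hm_pg]; exact mem_aut30 nb_chk (ga_tab 9) mb
  · rw [hm_pg]; exact mem_aut30 nb_chk (ga_tab 13) mc
  · rw [hm_pg]; exact mem_aut30 nb_chk (ga_tab 15) md

theorem N_le_aut : N ≤ Aut 3906 row := fun _ h => aut30 nb_chk rows_chk (N_le_hex h)

/-- the isomorphism -/
noncomputable def eP : P44 ≃* N := MonoidHom.ofInjective inj_hm

/-- **the isomorphism** -/
noncomputable def eN : Cfsg.Lie.chevG2.group (ZMod 5) ≃* N := G14.equivChev.symm.trans eP

theorem card_N : Nat.card N = 5859000000 := by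
  rw [← Nat.card_congr eP.toEquiv, M7.card_P44]

end Cfsg.Agent.H137.G25
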