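import Cfsg.Agent.H137.G25.Nb
import Cfsg.Agent.H137.G25.Rep

/-!
# The class of elements of order 5 with centralizer of order 1875 (helper137)
-/

set_option autoImplicit false
set_option maxRecDepth 1000000
set_option maxHeartbeats 100000
set_option exponentiation.threshold 5000
set_option Elab.async false

namespace Cfsg.Agent.H137.G25

open Cfsg.Agent.H123.Cls

theorem bd9 : chkQ nbl row p9 [(false, 1)]
    [.cnt 0 [0], .cell [(false, 0)], .cnt 0 [100], .cell [(false, 4), (true, 2), (false, 0)], .base 0 0 5, .cell [(false, 8), (true, 2), (true, 0), (true, 1)], .base 0 1644 5, .cell [(true, 10), (true, 0), (true, 16), (false, 4), (false, 9), (false, 8), (false, 2), (false, 7), (false, 6), (false, 3), (false, 1)], .cnt 0 [3, 4, 5, 2, 6, 7, 1, 0, 8], .cell [(true, 10), (true, 7), (true, 26), (false, 13), (false, 19), (false, 12), (false, 17), (false, 20), (false, 16), (false, 11), (false, 18), (false, 14)], .cnt 0 [3, 2, 4, 1, 5, 0, 6, 7], .cnt 0 [5, 6, 7, 8, 9, 4, 3, 10, 11, 14,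 13, 15, 17], .cnt 3 [2, 1, 3, 4], .cnt 6 [3, 4, 2, 5, 7], .cell [(true, 25), (true, 2), (true, 39), (true, 43), (true, 57)], .cnt 0 [0], .cnt 12 [1], .fin [60, 10, 0, 31, 6, 41, 44, 47, 51, 32, 11, 1, 7, 50, 52, 42, 46, 54, 48, 53, 40, 4, 45, 22, 23, 30, 5, 21, 20, 39, 24, 29, 19, 9, 8, 34, 18, 3]] 1874 = true := by decide +kernel

end Cfsg.Agent.H137.G25
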