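import Cfsg.Agent.H137.G25.Nb
import Cfsg.Agent.H137.G25.Rep

/-!
# The two classes of elements of order 15 with the same keys (helper137)
-/

set_option autoImplicit false
set_option maxRecDepth 1000000
set_option maxHeartbeats 100000
set_option exponentiation.threshold 5000
set_option Elab.async false

namespace Cfsg.Agent.H137.G25

open Cfsg.Agent.H123.Cls

theorem cn26 : chkCn nbl row p26 656 = true := by decide +kernel

theorem cn43 : chkCn nbl row p43 1106 = true := by decide +kernel

end Cfsg.Agent.H137.G25
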